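import Mathlib

/-!
# First Ext groups of lattices in an overring
-/

set_option autoImplicit false

universe u

open CategoryTheory CategoryTheory.Abelian

namespace Groth.Agent.TFExt

section Presentation

variable {A : Type u} [CommRing A] {K F M N : Type u} [AddCommGroup K] [Module A K] [AddCommGroup F] [Module A F]
  [AddCommGroup M] [Module A M] [AddCommGroup N] [Module A N]

/-- The first Ext group from a presentation. -/
theorem ext_one_of_presentation [Module.Projective A F] (f : K →ₗ[A] F) (g : F →ₗ[A] M)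
    (hf : Function.Injective f) (hg : Function.Surjective g) (hfg : Function.Exact f g) :
    Nonempty (Ext (ModuleCat.of A M) (ModuleCat.of A N) 1 ≃ₗ[A] (K →ₗ[A] N) ⧸ LinearMap.range (f.lcomp A N)) := by
  let S : ShortComplex (ModuleCat.{u} A) := ShortComplex.mk (ModuleCat.ofHom f) (ModuleCat.ofHom g) (by
    ext x; exact hfg.apply_apply_eq_zero x)
  have hS : S.ShortExact := by
    refine { exact := ?_, mono_f := ?_, epi_g := ?_ }
    · rw [ShortComplex.moduleCat_exact_iff_ker_sub_range]
      intro x hx
      exact (hfg x).1 hx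
    · exact (ModuleCat.mono_iff_injective _).2 hf
    · exact (ModuleCat.epi_iff_surjective _).2 hg
  haveI : Projective S.X₂ := inferInstanceAs (Projective (ModuleCat.of A F))
  let Φ : (K →ₗ[A] N) →ₗ[A] Ext (ModuleCat.of A M) (ModuleCat.of A N) 1 :=
    { toFun := fun φ => hS.extClass.comp (Ext.mk₀ (ModuleCat.ofHom φ : S.X₁ ⟶ ModuleCat.of A N)) (add_zero 1)
      map_add' := fun φ ψ => by rw [← Ext.comp_add, ← Ext.mk₀_add]; rfl
      map_smul' := fun r φ => by
        rw [RingHom.id_apply, ← Ext.comp_smul, ← Ext.mk₀_smul]; rfl }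
  have hsurj : Function.Surjective Φ := by
    intro x
    obtain ⟨x₁, hx₁⟩ := Ext.contravariant_sequence_exact₃ hS (ModuleCat.of A N) x
      (Ext.eq_zero_of_projective _) (n₀ := 0) (by lia)
    obtain ⟨φ, rfl⟩ := (Ext.mk₀_bijective S.X₁ (ModuleCat.of A N)).2 x₁
    exact ⟨φ.hom, hx₁⟩
  have hker : LinearMap.ker Φ = LinearMap.range (f.lcomp A N) := by
    ext φ
    rw [LinearMap.mem_ker, LinearMap.mem_range]
    constructor
    · intro h
      obtain ⟨x₂, hx₂⟩ := Ext.contravariant_sequence_exact₁ hS (ModuleCat.of A N)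
        (Ext.mk₀ (ModuleCat.ofHom φ : S.X₁ ⟶ ModuleCat.of A N)) (n₁ := 1) (by lia) h
      obtain ⟨ψ, rfl⟩ := (Ext.mk₀_bijective S.X₂ (ModuleCat.of A N)).2 x₂
      rw [Ext.mk₀_comp_mk₀] at hx₂
      exact ⟨ψ.hom, congrArg ModuleCat.Hom.hom ((Ext.mk₀_bijective _ _).1 hx₂)⟩
    · rintro ⟨ψ, rfl⟩
      show hS.extClass.comp (Ext.mk₀ (S.f ≫ ModuleCat.ofHom ψ)) (add_zero 1) = 0
      rw [← Ext.mk₀_comp_mk₀]
      exact hS.extClass_comp_assoc _ (h := add_zero 1)
  exact ⟨((Submodule.quotEquivOfEq _ _ hker.symm).trans (Φ.quotKerEquivOfSurjective hsurj)).symm⟩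

end Presentation

section Length

variable {k : Type u} [Field k] {A : Type u} [CommRing A] [Algebra k A]

/-- Over an algebra all of whose maximal ideals have residue field the base field, length is dimension. -/
theorem length_eq_finrank (hA : ∀ (P : Ideal A), P.IsMaximal → ∀ a, ∃ c : k, a - algebraMap k A c ∈ P)
    (E : Type u) [AddCommGroup E] [Module A E] [Module k E] [IsScalarTower k A E] [FiniteDimensional k E] :
    Module.length A E = (Module.finrank k E : ℕ∞) := by
  suffices H : ∀ n, ∀ (E : Type u) [AddCommGroup E] [Module A E] [Module k E] [IsScalarTower k A E]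
      [FiniteDimensional k E], Module.finrank k E = n → Module.length A E = (n : ℕ∞) from H _ E rfl
  intro n
  induction n using Nat.strong_induction_on with
  | _ n ih =>
    intro E _ _ _ _ _ hn
    rcases subsingleton_or_nontrivial E with hE | hE
    · rw [← hn, Module.finrank_zero_of_subsingleton]
      simpa using Module.length_eq_zero
    haveI : IsArtinian A E := isArtinian_of_tower k inferInstance
    obtain h | ⟨s, hs, -⟩ := IsAtomic.eq_bot_or_exists_atom_le (⊤ : Submodule A E)
    · exact absurd h top_ne_bot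
    haveI hsimple : IsSimpleModule A s := isSimpleModule_iff_isAtom.2 hs
    obtain ⟨P, hP, ⟨e⟩⟩ := isSimpleModule_iff_quot_maximal.1 hsimple
    have h1 : Module.finrank k s = 1 := by
      refine finrank_eq_one (e.symm (Ideal.Quotient.mk P 1)) (fun h => hP.ne_top ?_) fun w => ?_
      · rw [map_eq_zero_iff _ e.symm.injective, Ideal.Quotient.eq_zero_iff_mem] at h
        exact (Ideal.eq_top_iff_one P).2 h
      · obtain ⟨a, ha⟩ := Ideal.Quotient.mk_surjective (e w)
        obtain ⟨c, hc⟩ := hA P hP a
        refine ⟨c, e.injective ?_⟩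
        rw [← ha, ← IsScalarTower.algebraMap_smul A c (e.symm _), map_smul, e.apply_symm_apply,
          Algebra.smul_def, Ideal.Quotient.algebraMap_eq, ← map_mul, mul_one, Ideal.Quotient.mk_eq_mk_iff_sub_mem]
        rw [← neg_mem_iff, neg_sub]
        exact hc
    have hex : Function.Exact s.subtype s.mkQ := LinearMap.exact_subtype_mkQ s
    have hdim : Module.finrank k (E ⧸ s) + Module.finrank k s = Module.finrank k E := by
      have h := (s.restrictScalars k).finrank_quotient_add_finrank
      rw [LinearEquiv.finrank_eq (Submodule.Quotient.restrictScalarsEquiv k s)] at h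
      exact h
    rw [Module.length_eq_add_of_exact s.subtype s.mkQ s.injective_subtype s.mkQ_surjective hex,
      Module.length_eq_one A s, ih (Module.finrank k (E ⧸ s)) (by omega) (E ⧸ s) rfl]
    rw [← hn, ← hdim, h1, Nat.cast_add, Nat.cast_one, add_comm]

end Length

end Groth.Agent.TFExt
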