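import Groth.Agent.TFExt.Basic

/-!
# First Ext groups of reflexive modules
-/

set_option autoImplicit false

universe u

open CategoryTheory CategoryTheory.Abelian

namespace Groth.Agent.TFExt

variable {A : Type u} [CommRing A]

/-- The first Ext group from a copresentation. -/
theorem ext_one_of_copresentation {J X₁ X₂ X₃ : Type u} [AddCommGroup J] [Module A J] [AddCommGroup X₁] [Module A X₁]
    [AddCommGroup X₂] [Module A X₂] [AddCommGroup X₃] [Module A X₃] (f : X₁ →ₗ[A] X₂) (g : X₂ →ₗ[A] X₃)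
    (hf : Function.Injective f) (hg : Function.Surjective g) (hfg : Function.Exact f g)
    (hvan : Subsingleton (Ext (ModuleCat.of A J) (ModuleCat.of A X₂) 1)) :
    Nonempty (Ext (ModuleCat.of A J) (ModuleCat.of A X₁) 1 ≃ₗ[A] (J →ₗ[A] X₃) ⧸ LinearMap.range (g.compRight A : (J →ₗ[A] X₂) →ₗ[A] (J →ₗ[A] X₃))) := by
  let S : ShortComplex (ModuleCat.{u} A) := ShortComplex.mk (ModuleCat.ofHom f) (ModuleCat.ofHom g) (by
    ext x; exact hfg.apply_apply_eq_zero x)
  have hS : S.ShortExact := by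
    refine { exact := ?_, mono_f := ?_, epi_g := ?_ }
    · rw [ShortComplex.moduleCat_exact_iff_ker_sub_range]
      intro x hx
      exact (hfg x).1 hx
    · exact (ModuleCat.mono_iff_injective _).2 hf
    · exact (ModuleCat.epi_iff_surjective _).2 hg
  let Φ : (J →ₗ[A] X₃) →ₗ[A] Ext (ModuleCat.of A J) (ModuleCat.of A X₁) 1 :=
    { toFun := fun φ => (Ext.mk₀ (ModuleCat.ofHom φ : ModuleCat.of A J ⟶ S.X₃)).comp hS.extClass (zero_add 1)
      map_add' := fun φ ψ => by rw [← Ext.add_comp, ← Ext.mk₀_add]; rfl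
      map_smul' := fun r φ => by
        rw [RingHom.id_apply, ← Ext.smul_comp, ← Ext.mk₀_smul]; rfl }
  have hsurj : Function.Surjective Φ := by
    intro x
    obtain ⟨x₁, hx₁⟩ := Ext.covariant_sequence_exact₁ (ModuleCat.of A J) hS x (hvan.elim _ _) (n₀ := 0) (by lia)
    obtain ⟨φ, rfl⟩ := (Ext.mk₀_bijective (ModuleCat.of A J) S.X₃).2 x₁
    exact ⟨φ.hom, hx₁⟩
  have hker : LinearMap.ker Φ = LinearMap.range (g.compRight A : (J →ₗ[A] X₂) →ₗ[A] (J →ₗ[A] X₃)) := by
    ext φ
    rw [LinearMap.mem_ker, LinearMap.mem_range]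
    constructor
    · intro h
      obtain ⟨x₂, hx₂⟩ := Ext.covariant_sequence_exact₃ (ModuleCat.of A J) hS
        (Ext.mk₀ (ModuleCat.ofHom φ : ModuleCat.of A J ⟶ S.X₃)) (n₁ := 1) (by lia) h
      obtain ⟨ψ, rfl⟩ := (Ext.mk₀_bijective (ModuleCat.of A J) S.X₂).2 x₂
      rw [Ext.mk₀_comp_mk₀] at hx₂
      exact ⟨ψ.hom, congrArg ModuleCat.Hom.hom ((Ext.mk₀_bijective _ _).1 hx₂)⟩
    · rintro ⟨ψ, rfl⟩
      show (Ext.mk₀ ((ModuleCat.ofHom ψ : ModuleCat.of A J ⟶ S.X₂) ≫ S.g)).comp hS.extClass (zero_add 1) = 0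
      rw [← Ext.mk₀_comp_mk₀_assoc, hS.comp_extClass, Ext.comp_zero]
  exact ⟨((Submodule.quotEquivOfEq _ _ hker.symm).trans (Φ.quotKerEquivOfSurjective hsurj)).symm⟩

/-- Vanishing of Ext into the dual of a finite free module. -/
theorem subsingleton_ext_dual_pi (H : ∀ (C : Type u) [AddCommGroup C] [Module A C] [Module.Finite A C] [Module.IsTorsionFree A C],
      Subsingleton (Ext (ModuleCat.of A C) (ModuleCat.of A A) 1))
    (C : Type u) [AddCommGroup C] [Module A C] [Module.Finite A C] [Module.IsTorsionFree A C] (n : ℕ) :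
    Subsingleton (Ext (ModuleCat.of A C) (ModuleCat.of A (Module.Dual A (Fin n → A))) 1) := by
  haveI := H C
  let p : Fin n → (ModuleCat.of A (Module.Dual A (Fin n → A)) ⟶ ModuleCat.of A A) := fun j =>
    ModuleCat.ofHom (LinearMap.applyₗ (Pi.single j 1))
  let s : Fin n → (ModuleCat.of A A ⟶ ModuleCat.of A (Module.Dual A (Fin n → A))) := fun j =>
    ModuleCat.ofHom (LinearMap.toSpanSingleton A _ (LinearMap.proj j))
  have hid : ∑ j, p j ≫ s j = 𝟙 _ := by
    refine ModuleCat.hom_ext (LinearMap.ext fun φ => ?_)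
    rw [ModuleCat.hom_sum, LinearMap.sum_apply]
    refine LinearMap.ext fun v => ?_
    rw [LinearMap.sum_apply]
    show ∑ j, φ (Pi.single j 1) • v j = φ v
    conv_rhs => rw [pi_eq_sum_univ' v, map_sum]
    refine Finset.sum_congr rfl fun j _ => ?_
    rw [map_smul, smul_eq_mul, smul_eq_mul, mul_comm]
  refine subsingleton_of_forall_eq 0 fun z => ?_
  rw [← Ext.comp_mk₀_id z, ← hid, Ext.mk₀_sum, Ext.comp_sum]
  refine Finset.sum_eq_zero fun j _ => ?_
  rw [← Ext.mk₀_comp_mk₀, ← Ext.comp_assoc_of_third_deg_zero, Subsingleton.elim (z.comp (Ext.mk₀ (p j)) (add_zero 1)) 0,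
    Ext.zero_comp]

variable [IsDomain A]

/-- Ext of a reflexive module with itself through its dual. -/
theorem ext_one_self_dual [IsNoetherianRing A]
    (H : ∀ (C : Type u) [AddCommGroup C] [Module A C] [Module.Finite A C] [Module.IsTorsionFree A C],
      Subsingleton (Ext (ModuleCat.of A C) (ModuleCat.of A A) 1))
    (M : Type u) [AddCommGroup M] [Module A M] [Module.Finite A M] [Module.IsTorsionFree A M]
    (hrefl : Function.Bijective (Module.Dual.eval A M)) :
    Nonempty (Ext (ModuleCat.of A M) (ModuleCat.of A M) 1 ≃ₗ[A]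
      Ext (ModuleCat.of A (Module.Dual A M)) (ModuleCat.of A (Module.Dual A M)) 1) := by
  obtain ⟨n, p, hp⟩ := Module.Finite.exists_fin' A M
  let f := (LinearMap.ker p).subtype
  have hfp : Function.Exact f p := LinearMap.exact_subtype_ker_map p
  obtain ⟨e₁⟩ := ext_one_of_presentation (N := M) f p (Submodule.injective_subtype _) hp hfp
  have hsurj : Function.Surjective f.dualMap := by
    intro ψ
    let S : ShortComplex (ModuleCat.{u} A) := ShortComplex.mk (ModuleCat.ofHom f) (ModuleCat.ofHom p) (by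
      ext x; exact hfp.apply_apply_eq_zero x)
    have hS : S.ShortExact := by
      refine { exact := ?_, mono_f := ?_, epi_g := ?_ }
      · rw [ShortComplex.moduleCat_exact_iff_ker_sub_range]
        intro x hx
        exact (hfp x).1 hx
      · exact (ModuleCat.mono_iff_injective _).2 (Submodule.injective_subtype _)
      · exact (ModuleCat.epi_iff_surjective _).2 hp
    haveI := H M
    obtain ⟨x₂, hx₂⟩ := Ext.contravariant_sequence_exact₁ hS (ModuleCat.of A A)
      (Ext.mk₀ (ModuleCat.ofHom ψ : S.X₁ ⟶ ModuleCat.of A A)) (n₁ := 1) rfl (Subsingleton.elim _ _)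
    obtain ⟨χ, rfl⟩ := (Ext.mk₀_bijective S.X₂ (ModuleCat.of A A)).2 x₂
    rw [Ext.mk₀_comp_mk₀] at hx₂
    exact ⟨χ.hom, congrArg ModuleCat.Hom.hom ((Ext.mk₀_bijective _ _).1 hx₂)⟩
  have hex : Function.Exact p.dualMap f.dualMap := by
    intro χ
    constructor
    · intro h
      have hk : LinearMap.ker p ≤ LinearMap.ker χ := fun y hy => LinearMap.congr_fun h ⟨y, hy⟩
      refine ⟨((LinearMap.ker p).liftQ χ hk).comp (p.quotKerEquivOfSurjective hp).symm.toLinearMap, LinearMap.ext fun y => ?_⟩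
      show (LinearMap.ker p).liftQ χ hk ((p.quotKerEquivOfSurjective hp).symm (p y)) = χ y
      rw [show (p.quotKerEquivOfSurjective hp).symm (p y) = Submodule.Quotient.mk y from
        (LinearEquiv.symm_apply_eq _).2 rfl]
      rfl
    · rintro ⟨ξ, rfl⟩
      exact LinearMap.ext fun y => by
        show ξ (p (f y)) = 0
        rw [hfp.apply_apply_eq_zero, map_zero]
  obtain ⟨e₂⟩ := ext_one_of_copresentation (J := Module.Dual A M) p.dualMap f.dualMap
    (LinearMap.dualMap_injective_of_surjective hp) hsurj hex (subsingleton_ext_dual_pi H _ n)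
  let ev : M ≃ₗ[A] Module.Dual A (Module.Dual A M) := LinearEquiv.ofBijective _ hrefl
  let θ : (↥(LinearMap.ker p) →ₗ[A] M) ≃ₗ[A] (Module.Dual A M →ₗ[A] Module.Dual A ↥(LinearMap.ker p)) :=
    (LinearEquiv.congrRight ev).trans LinearMap.lflip
  refine ⟨e₁.trans ((Submodule.Quotient.equiv _ _ θ ?_).trans e₂.symm)⟩
  ext χ
  simp only [Submodule.mem_map, LinearMap.mem_range]
  constructor
  · rintro ⟨_, ⟨ψ, rfl⟩, rfl⟩
    exact ⟨ψ.dualMap, rfl⟩
  · rintro ⟨ω, rfl⟩
    refine ⟨_, ⟨ev.symm.toLinearMap.comp ω.flip, rfl⟩, ?_⟩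
    refine LinearMap.ext fun ξ => LinearMap.ext fun x => ?_
    show ev (ev.symm (ω.flip (f x))) ξ = ω ξ (f x)
    rw [ev.apply_symm_apply]
    rfl

end Groth.Agent.TFExt
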