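import Groth.Agent.TFExt.Norm
import Groth.Agent.TFExt.Overring

/-!
# Canonical ideals of one-dimensional local domains
-/

set_option autoImplicit false

universe u

open CategoryTheory CategoryTheory.Abelian Pointwise

namespace Groth.Agent.TFExt

variable {O : Type u} [CommRing O] [IsDomain O] [IsNoetherianRing O] {K : Type u} [Field K] [Algebra O K]

/-- The length of the quotient of two submodules. -/
noncomputable def len (L' L : Submodule O K) : ℕ∞ := Module.length O (↥L' ⧸ L.comap L'.subtype)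

omit [IsDomain O] [IsNoetherianRing O] in
theorem len_self (L : Submodule O K) : len L L = 0 := by
  rw [len, Module.length_eq_zero_iff, Submodule.Quotient.subsingleton_iff, Submodule.comap_subtype_self]

omit [IsDomain O] [IsNoetherianRing O] in
theorem len_trans {L'' L' L : Submodule O K} (h₁ : L ≤ L') (h₂ : L' ≤ L'') : len L'' L = len L' L + len L'' L' := by
  let f : (↥L' ⧸ L.comap L'.subtype) →ₗ[O] (↥L'' ⧸ L.comap L''.subtype) :=
    Submodule.mapQ _ _ (Submodule.inclusion h₂) (fun x hx => hx)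
  let g : (↥L'' ⧸ L.comap L''.subtype) →ₗ[O] (↥L'' ⧸ L'.comap L''.subtype) :=
    Submodule.mapQ _ _ LinearMap.id (fun x hx => h₁ hx)
  refine Module.length_eq_add_of_exact f g ?_ ?_ ?_
  · rw [injective_iff_map_eq_zero]
    intro x hx
    obtain ⟨y, rfl⟩ := Submodule.Quotient.mk_surjective _ x
    rw [Submodule.mapQ_apply, Submodule.Quotient.mk_eq_zero] at hx
    exact (Submodule.Quotient.mk_eq_zero _).2 hx
  · intro x
    obtain ⟨y, rfl⟩ := Submodule.Quotient.mk_surjective _ x
    exact ⟨Submodule.Quotient.mk y, rfl⟩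
  · intro x
    obtain ⟨y, rfl⟩ := Submodule.Quotient.mk_surjective _ x
    rw [Submodule.mapQ_apply, Submodule.Quotient.mk_eq_zero]
    constructor
    · intro hy
      exact ⟨Submodule.Quotient.mk ⟨y, hy⟩, rfl⟩
    · rintro ⟨z, hz⟩
      obtain ⟨w, rfl⟩ := Submodule.Quotient.mk_surjective _ z
      rw [Submodule.mapQ_apply, Submodule.Quotient.eq] at hz
      have h3 : (w : K) - (y : K) ∈ L := hz
      show (y : K) ∈ L'
      have := L'.sub_mem w.2 (h₁ h3)
      rwa [sub_sub_cancel] at this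

omit [IsDomain O] [IsNoetherianRing O] in
theorem len_map {L' L : Submodule O K} (f : K →ₗ[O] K) (hf : Function.Injective f) :
    len (L'.map f) (L.map f) = len L' L := by
  refine (Submodule.Quotient.equiv _ _ (Submodule.equivMapOfInjective f hf L') ?_).length_eq.symm
  ext ⟨y, hy⟩
  simp only [Submodule.mem_map, Submodule.mem_comap, Submodule.subtype_apply]
  constructor
  · rintro ⟨x, hx, he⟩
    exact ⟨x, hx, congrArg Subtype.val he⟩
  · rintro ⟨x, hx, rfl⟩
    obtain ⟨x', hx', he⟩ := hy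
    exact ⟨⟨x', hx'⟩, show x' ∈ L from (hf he).symm ▸ hx, Subtype.ext he⟩

variable [IsFractionRing O K]

/-- A finitely generated nonzero submodule of the fraction field. -/
def IsLat (L : Submodule O K) : Prop := L ≠ ⊥ ∧ L.FG

theorem exists_smul_le {L L' : Submodule O K} (hL : IsLat L) (hL' : L'.FG) :
    ∃ a : O, a ≠ 0 ∧ ∀ x ∈ L', a • x ∈ L := by
  classical
  obtain ⟨y, hy, hy0⟩ := L.exists_mem_ne_zero_of_ne_bot hL.1
  obtain ⟨S, hS⟩ := hL'
  obtain ⟨⟨s, hs⟩, hint⟩ := IsLocalization.exist_integer_multiples (nonZeroDivisors O) S (fun x => x / y)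
  refine ⟨s, nonZeroDivisors.ne_zero hs, fun x hx => ?_⟩
  rw [← hS] at hx
  induction hx using Submodule.span_induction with
  | mem z hz =>
    obtain ⟨b, hb⟩ := hint z hz
    have : s • z = b • y := by
      rw [Algebra.smul_def b, hb, Algebra.smul_def, Algebra.smul_def, mul_assoc, div_mul_cancel₀ _ hy0]
    exact this ▸ L.smul_mem b hy
  | zero => rw [smul_zero]; exact L.zero_mem
  | add p q _ _ hp hq => rw [smul_add]; exact L.add_mem hp hq
  | smul r p _ hp => rw [smul_comm]; exact L.smul_mem r hp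

theorem len_ne_top [Ring.KrullDimLE 1 O] {L L' : Submodule O K} (hL : IsLat L) (hL' : L'.FG) : len L' L ≠ ⊤ := by
  obtain ⟨a, ha, hle⟩ := exists_smul_le hL hL'
  have hfl : IsFiniteLength O (O ⧸ Ideal.span {a}) :=
    isFiniteLength_quotient_span_singleton O (mem_nonZeroDivisors_iff_ne_zero.2 ha)
  rw [isFiniteLength_iff_isNoetherian_isArtinian] at hfl
  haveI := hfl.1
  haveI := hfl.2
  haveI : Module.Finite O ↥L' := Module.Finite.iff_fg.2 hL'
  obtain ⟨n, p, hp⟩ := Module.Finite.exists_fin' O (↥L' ⧸ L.comap L'.subtype)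
  have hker : ∀ v : Fin n → O, (∀ i, v i ∈ Ideal.span {a}) → p v = 0 := by
    intro v hv
    choose w hw using fun i => Ideal.mem_span_singleton'.1 (hv i)
    have : v = a • w := funext fun i => by rw [Pi.smul_apply, smul_eq_mul, mul_comm]; exact (hw i).symm
    rw [this, map_smul]
    obtain ⟨y, hy⟩ := Submodule.Quotient.mk_surjective _ (p w)
    rw [← hy, ← Submodule.Quotient.mk_smul, Submodule.Quotient.mk_eq_zero]
    exact hle _ y.2
  let π : (Fin n → O) →ₗ[O] (Fin n → O ⧸ Ideal.span {a}) := (Ideal.span {a}).mkQ.compLeft (Fin n)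
  have hπ : Function.Surjective π := fun v => by
    choose w hw using fun i => Submodule.mkQ_surjective (Ideal.span {a}) (v i)
    exact ⟨w, funext hw⟩
  have hle' : LinearMap.ker π ≤ LinearMap.ker p := fun v hv =>
    hker v fun i => (Submodule.Quotient.mk_eq_zero _).1 (congrFun hv i)
  let q : (Fin n → O ⧸ Ideal.span {a}) →ₗ[O] (↥L' ⧸ L.comap L'.subtype) :=
    ((LinearMap.ker π).liftQ p hle').comp (π.quotKerEquivOfSurjective hπ).symm.toLinearMap
  have hq : Function.Surjective q := fun x => by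
    obtain ⟨v, hv⟩ := hp x
    refine ⟨π v, ?_⟩
    show (LinearMap.ker π).liftQ p hle' ((π.quotKerEquivOfSurjective hπ).symm (π v)) = x
    rw [show (π.quotKerEquivOfSurjective hπ).symm (π v) = Submodule.Quotient.mk v from
      (LinearEquiv.symm_apply_eq _).2 rfl]
    exact hv
  haveI := isArtinian_of_surjective _ q hq
  haveI := isNoetherian_of_surjective q (LinearMap.range_eq_top.2 hq)
  exact Module.length_ne_top

/-- Functionals into a submodule are multiplications. -/
theorem hom_eq_mul {L : Submodule O K} {y : K} (hy : y ∈ L) (hy0 : y ≠ 0) (φ : ↥L →ₗ[O] K) (x : ↥L) :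
    φ x = (φ ⟨y, hy⟩ / y) * x := by
  obtain ⟨⟨a, s⟩, hs⟩ := IsLocalization.surj (nonZeroDivisors O) ((x : K) / y)
  have h1 : (s : O) • x = a • (⟨y, hy⟩ : ↥L) := Subtype.ext (by
    simp only [Submodule.coe_smul, Algebra.smul_def]
    rw [← hs]
    field_simp)
  have h2 := congrArg φ h1
  simp only [map_smul, Algebra.smul_def] at h2
  refine mul_left_cancel₀ (IsLocalization.map_units K s).ne_zero ?_
  rw [h2, ← hs]
  field_simp

variable {ω : Submodule O K}

theorem subsingleton_ext (hωinj : HasInjectiveDimensionLT (ModuleCat.of O ↥ω) 2) (M : Type u) [AddCommGroup M] [Module O M]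
    [Module.Finite O M] [Module.IsTorsionFree O M] : Subsingleton (Ext (ModuleCat.of O M) (ModuleCat.of O ↥ω) 1) := by
  classical
  obtain ⟨S, hS⟩ := (inferInstance : Module.Finite O M).fg_top
  obtain ⟨s, hli, hmax⟩ := exists_maximal_linearIndepOn O (fun x : S => (x : M))
  choose! a ha0 ha using hmax
  let N := Submodule.span O ((fun x : S => (x : M)) '' s)
  let c : O := ∏ x : S, if x ∈ s then 1 else a x
  have hc0 : c ≠ 0 := Finset.prod_ne_zero_iff.2 fun x _ => by
    split_ifs with h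
    · exact one_ne_zero
    · exact ha0 x h
  have hc : ∀ m : M, c • m ∈ N := by
    intro m
    have hm : m ∈ Submodule.span O (S : Set M) := hS ▸ Submodule.mem_top
    induction hm using Submodule.span_induction with
    | mem y hy =>
      obtain ⟨d, hd⟩ : (if (⟨y, hy⟩ : S) ∈ s then (1 : O) else a ⟨y, hy⟩) ∣ c :=
        Finset.dvd_prod_of_mem _ (Finset.mem_univ _)
      rw [hd, mul_comm, mul_smul]
      refine N.smul_mem _ ?_
      split_ifs with h
      · rw [one_smul]; exact Submodule.subset_span ⟨_, h, rfl⟩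
      · exact ha _ h
    | zero => simp
    | add y z _ _ hy hz => rw [smul_add]; exact add_mem hy hz
    | smul r y _ hy => rw [smul_comm]; exact N.smul_mem r hy
  have hN : N = Submodule.span O (Set.range fun x : s => ((x : S) : M)) := by
    simp only [N, Set.image_eq_range]
  let b := Module.Basis.span (R := O) hli
  haveI : Finite s := Subtype.finite
  let φ : M →ₗ[O] N := (LinearMap.lsmul O M c).codRestrict N hc
  let j : M →ₗ[O] (s → O) := (b.equivFun.toLinearMap).comp ((LinearEquiv.ofEq _ _ hN).toLinearMap.comp φ)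
  have hj : Function.Injective j := by
    refine b.equivFun.injective.comp ((LinearEquiv.ofEq _ _ hN).injective.comp ?_)
    intro x y hxy
    exact (smul_right_injective M hc0) (congrArg Subtype.val hxy)
  let sc : ShortComplex (ModuleCat.{u} O) := ShortComplex.mk (ModuleCat.ofHom j)
    (ModuleCat.ofHom (LinearMap.range j).mkQ) (by ext x; simp)
  have hsc : sc.ShortExact :=
    { exact := (ShortComplex.ShortExact.moduleCat_exact_iff_function_exact sc).2 (LinearMap.exact_map_mkQ_range j)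
      mono_f := (ModuleCat.mono_iff_injective _).2 hj
      epi_g := (ModuleCat.epi_iff_surjective _).2 (Submodule.mkQ_surjective _) }
  haveI : Projective sc.X₂ := ModuleCat.projective_of_free (Pi.basisFun O s)
  haveI := hωinj
  refine subsingleton_of_forall_eq 0 fun z => ?_
  obtain ⟨z₂, hz₂⟩ := Ext.contravariant_sequence_exact₁ hsc _ z (n₁ := 1 + 1) rfl
    (Ext.eq_zero_of_hasInjectiveDimensionLT _ 2 le_rfl)
  rw [← hz₂, Ext.eq_zero_of_projective z₂, Ext.comp_zero]

omit [IsNoetherianRing O] in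
theorem mem_lat_dual {L : Submodule O K} {x : K} : x ∈ ω / L ↔ ∀ y ∈ L, x * y ∈ ω :=
  Submodule.mem_div_iff_forall_mul_mem

theorem isLat_div (hω : IsLat ω) {L : Submodule O K} (hL : IsLat L) : IsLat (ω / L) := by
  constructor
  · obtain ⟨a, ha, hle⟩ := exists_smul_le hω hL.2
    refine Submodule.ne_bot_iff _ |>.2 ⟨algebraMap O K a, mem_lat_dual.2 fun y hy => ?_, ?_⟩
    · rw [← Algebra.smul_def]; exact hle y hy
    · exact fun h => ha (IsFractionRing.injective O K (h.trans (map_zero _).symm))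
  · obtain ⟨y, hy, hy0⟩ := L.exists_mem_ne_zero_of_ne_bot hL.1
    have hle : ω / L ≤ ω.map (LinearMap.mulLeft O y⁻¹) := fun x hx =>
      ⟨x * y, mem_lat_dual.1 hx y hy, by simp only [LinearMap.mulLeft_apply]; field_simp⟩
    haveI : Module.Finite O ↥(ω.map (LinearMap.mulLeft O y⁻¹)) := Module.Finite.iff_fg.2 (hω.2.map _)
    exact Module.Finite.iff_fg.1 (Module.Finite.of_injective (Submodule.inclusion hle) (Submodule.inclusion_injective hle))

/-- The length of the dual quotient as an Ext group. -/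
theorem len_div_eq_ext (hωinj : HasInjectiveDimensionLT (ModuleCat.of O ↥ω) 2) {L L' : Submodule O K} (hL : IsLat L)
    (hL' : L'.FG) (hle : L ≤ L') :
    len (ω / L) (ω / L') = Module.length O (Ext (ModuleCat.of O (↥L' ⧸ L.comap L'.subtype)) (ModuleCat.of O ↥ω) 1) := by
  let f := Submodule.inclusion hle
  let g := (L.comap L'.subtype).mkQ
  let S : ShortComplex (ModuleCat.{u} O) := ShortComplex.mk (ModuleCat.ofHom f) (ModuleCat.ofHom g) (by
    ext x
    exact (Submodule.Quotient.mk_eq_zero _).2 x.2)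
  have hS : S.ShortExact := by
    refine { exact := ?_, mono_f := ?_, epi_g := ?_ }
    · rw [ShortComplex.moduleCat_exact_iff_ker_sub_range]
      intro x hx
      exact ⟨⟨_, (Submodule.Quotient.mk_eq_zero (L.comap L'.subtype)).1 hx⟩, Subtype.ext rfl⟩
    · exact (ModuleCat.mono_iff_injective _).2 (Submodule.inclusion_injective hle)
    · exact (ModuleCat.epi_iff_surjective _).2 (Submodule.mkQ_surjective _)
  haveI : Module.Finite O ↥L' := Module.Finite.iff_fg.2 hL'
  haveI := subsingleton_ext hωinj ↥L'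
  let Φ : (↥L →ₗ[O] ↥ω) →ₗ[O] Ext S.X₃ (ModuleCat.of O ↥ω) 1 :=
    { toFun := fun φ => hS.extClass.comp (Ext.mk₀ (ModuleCat.ofHom φ : S.X₁ ⟶ ModuleCat.of O ↥ω)) (add_zero 1)
      map_add' := fun φ ψ => by rw [← Ext.comp_add, ← Ext.mk₀_add]; rfl
      map_smul' := fun r φ => by rw [RingHom.id_apply, ← Ext.comp_smul, ← Ext.mk₀_smul]; rfl }
  let μ : ↥(ω / L) →ₗ[O] (↥L →ₗ[O] ↥ω) :=
    { toFun := fun x => ((LinearMap.mulLeft O (x : K)).comp L.subtype).codRestrict ω fun y => mem_lat_dual.1 x.2 y y.2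
      map_add' := fun x x' => LinearMap.ext fun y => Subtype.ext (add_mul _ _ _)
      map_smul' := fun r x => LinearMap.ext fun y => Subtype.ext (smul_mul_assoc r (x : K) (y : K)) }
  obtain ⟨y₀, hy₀, hy₀0⟩ := L.exists_mem_ne_zero_of_ne_bot hL.1
  have hsurjμ : Function.Surjective μ := fun φ =>
    ⟨⟨(φ ⟨y₀, hy₀⟩ : K) / y₀, mem_lat_dual.2 fun z hz => by
      have e : (φ ⟨z, hz⟩ : K) = (φ ⟨y₀, hy₀⟩ : K) / y₀ * z := hom_eq_mul hy₀ hy₀0 (ω.subtype.comp φ) ⟨z, hz⟩
      exact e ▸ (φ ⟨z, hz⟩).2⟩,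
      LinearMap.ext fun z => Subtype.ext (hom_eq_mul hy₀ hy₀0 (ω.subtype.comp φ) z).symm⟩
  have hsurj : Function.Surjective (Φ.comp μ) := fun x => by
    obtain ⟨x₁, hx₁⟩ := Ext.contravariant_sequence_exact₃ hS (ModuleCat.of O ↥ω) x (Subsingleton.elim _ _) (n₀ := 0) rfl
    obtain ⟨φ, rfl⟩ := (Ext.mk₀_bijective S.X₁ (ModuleCat.of O ↥ω)).2 x₁
    obtain ⟨z, hz⟩ := hsurjμ φ.hom
    exact ⟨z, by rw [LinearMap.comp_apply, hz]; exact hx₁⟩
  have hker : LinearMap.ker (Φ.comp μ) = (ω / L').comap (ω / L).subtype := by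
    ext x
    rw [LinearMap.mem_ker, Submodule.mem_comap, Submodule.subtype_apply, mem_lat_dual]
    constructor
    · intro h
      obtain ⟨x₂, hx₂⟩ := Ext.contravariant_sequence_exact₁ hS (ModuleCat.of O ↥ω)
        (Ext.mk₀ (ModuleCat.ofHom (μ x) : S.X₁ ⟶ ModuleCat.of O ↥ω)) (n₁ := 1) rfl h
      obtain ⟨ψ, rfl⟩ := (Ext.mk₀_bijective S.X₂ (ModuleCat.of O ↥ω)).2 x₂
      rw [Ext.mk₀_comp_mk₀] at hx₂
      have h2 := congrArg ModuleCat.Hom.hom ((Ext.mk₀_bijective _ _).1 hx₂)
      intro z hz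
      have h3 : (x : K) * y₀ = (ψ.hom ⟨y₀, hle hy₀⟩ : K) := (congrArg Subtype.val (LinearMap.congr_fun h2 ⟨y₀, hy₀⟩)).symm
      have h4 : (ψ.hom ⟨z, hz⟩ : K) = (x : K) * z := by
        refine (hom_eq_mul (hle hy₀) hy₀0 (ω.subtype.comp ψ.hom) ⟨z, hz⟩).trans ?_
        rw [LinearMap.comp_apply, Submodule.subtype_apply, ← h3]
        field_simp
      exact h4 ▸ (ψ.hom ⟨z, hz⟩).2
    · intro h
      let ψ : ↥L' →ₗ[O] ↥ω := ((LinearMap.mulLeft O (x : K)).comp L'.subtype).codRestrict ω fun z => h z z.2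
      show hS.extClass.comp (Ext.mk₀ (S.f ≫ ModuleCat.ofHom ψ)) (add_zero 1) = 0
      rw [← Ext.mk₀_comp_mk₀]
      exact hS.extClass_comp_assoc _ (h := add_zero 1)
  exact ((Submodule.quotEquivOfEq _ _ hker.symm).trans ((Φ.comp μ).quotKerEquivOfSurjective hsurj)).length_eq

variable [IsLocalRing O] [Ring.KrullDimLE 1 O]

/-- Lengths of dual quotients are proportional to lengths. -/
theorem len_div_eq_mul (hω : IsLat ω) (hωinj : HasInjectiveDimensionLT (ModuleCat.of O ↥ω) 2) {L L' : Submodule O K}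
    (hL : IsLat L) (hL' : L'.FG) (hle : L ≤ L') :
    len (ω / L) (ω / L') = Module.length O (Ext (ModuleCat.of O (O ⧸ IsLocalRing.maximalIdeal O)) (ModuleCat.of O ↥ω) 1)
      * len L' L := by
  obtain ⟨n, hn⟩ : ∃ n : ℕ, len L' L = n := ⟨(len L' L).toNat, (ENat.natCast_toNat (len_ne_top hL hL')).symm⟩
  induction n using Nat.strong_induction_on generalizing L with
  | _ n ih =>
    by_cases he : L = L'
    · subst he
      rw [len_self, len_self, mul_zero]
    haveI : Module.Finite O ↥L' := Module.Finite.iff_fg.2 hL'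
    have hfin : IsFiniteLength O (↥L' ⧸ L.comap L'.subtype) := by
      rw [← Module.length_ne_top_iff]
      exact len_ne_top hL hL'
    rw [isFiniteLength_iff_isNoetherian_isArtinian] at hfin
    haveI := hfin.2
    obtain h | ⟨s, hs, -⟩ := IsAtomic.eq_bot_or_exists_atom_le (⊤ : Submodule O (↥L' ⧸ L.comap L'.subtype))
    · exfalso
      haveI : Subsingleton (↥L' ⧸ L.comap L'.subtype) := subsingleton_of_bot_eq_top h.symm |>
        fun h' => (Submodule.subsingleton_iff O).1 h'
      refine he (le_antisymm hle fun x hx => ?_)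
      have := Subsingleton.elim (Submodule.Quotient.mk ⟨x, hx⟩ : ↥L' ⧸ L.comap L'.subtype) 0
      exact (Submodule.Quotient.mk_eq_zero (L.comap L'.subtype)).1 this
    let L₁ : Submodule O K := (s.comap (L.comap L'.subtype).mkQ).map L'.subtype
    have h1 : L ≤ L₁ := fun x hx => ⟨⟨x, hle hx⟩, show _ ∈ s by
      rw [show (L.comap L'.subtype).mkQ ⟨x, hle hx⟩ = 0 from (Submodule.Quotient.mk_eq_zero _).2 hx]
      exact s.zero_mem, rfl⟩
    have h2 : L₁ ≤ L' := Submodule.map_subtype_le _ _
    have hL1 : IsLat L₁ := by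
      refine ⟨fun h => hL.1 (eq_bot_iff.2 (h ▸ h1)), ?_⟩
      exact Module.Finite.iff_fg.1 (Module.Finite.of_injective (Submodule.inclusion h2) (Submodule.inclusion_injective h2))
    let ν : ↥L₁ →ₗ[O] (↥L' ⧸ L.comap L'.subtype) := (L.comap L'.subtype).mkQ.comp (Submodule.inclusion h2)
    have hν : ∀ x, ν x ∈ s := by
      rintro ⟨_, y, hy, rfl⟩
      exact hy
    let ν' : ↥L₁ →ₗ[O] ↥s := ν.codRestrict s hν
    have hν's : Function.Surjective ν' := by
      rintro ⟨z, hz⟩
      obtain ⟨y, rfl⟩ := Submodule.Quotient.mk_surjective _ z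
      exact ⟨⟨y, ⟨y, hz, rfl⟩⟩, Subtype.ext rfl⟩
    have hν'k : LinearMap.ker ν' = L.comap L₁.subtype := by
      ext x
      rw [LinearMap.mem_ker, Subtype.ext_iff]
      exact (Submodule.Quotient.mk_eq_zero _).trans Iff.rfl
    let eq₁ : (↥L₁ ⧸ L.comap L₁.subtype) ≃ₗ[O] ↥s :=
      (Submodule.quotEquivOfEq _ _ hν'k.symm).trans (ν'.quotKerEquivOfSurjective hν's)
    haveI hsimple : IsSimpleModule O s := isSimpleModule_iff_isAtom.2 hs
    obtain ⟨P, hP, ⟨e⟩⟩ := isSimpleModule_iff_quot_maximal.1 hsimple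
    obtain rfl := IsLocalRing.eq_maximalIdeal hP
    have hlen1 : len L₁ L = 1 := by rw [len, eq₁.length_eq, Module.length_eq_one O s]
    have hsum : len L' L = 1 + len L' L₁ := by rw [len_trans h1 h2, hlen1]
    obtain ⟨m, hm⟩ : ∃ m : ℕ, len L' L₁ = m := ⟨(len L' L₁).toNat, (ENat.natCast_toNat (len_ne_top hL1 hL')).symm⟩
    have hmn : m < n := by
      have : (n : ℕ∞) = ((1 + m : ℕ) : ℕ∞) := by rw [← hn, hsum, hm, Nat.cast_add, Nat.cast_one]
      have := Nat.cast_injective this
      omega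
    have hd1 : ω / L' ≤ ω / L₁ := fun x hx => mem_lat_dual.2 fun y hy => mem_lat_dual.1 hx y (h2 hy)
    have hd2 : ω / L₁ ≤ ω / L := fun x hx => mem_lat_dual.2 fun y hy => mem_lat_dual.1 hx y (h1 hy)
    rw [len_trans hd1 hd2, ih m hmn hL1 h2 hm, len_div_eq_ext hωinj hL hL1.2 h1,
      ext_length_congr (eq₁.trans e).toModuleIso (Iso.refl (ModuleCat.of O ↥ω)) 1, hsum, mul_add, mul_one, add_comm]

theorem isLat_one : IsLat (1 : Submodule O K) :=
  ⟨one_ne_zero, by rw [Submodule.one_eq_span]; exact Submodule.fg_span_singleton 1⟩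

omit [IsNoetherianRing O] [IsLocalRing O] [Ring.KrullDimLE 1 O] in
theorem mulLeft_injective {c : K} (hc : c ≠ 0) : Function.Injective (LinearMap.mulLeft O c) := fun x y h =>
  mul_left_cancel₀ hc h

/-- The residue field has a one-dimensional first Ext group into a canonical ideal. -/
theorem type_one (hdim : ¬ IsField O) (hω : IsLat ω) (hωinj : HasInjectiveDimensionLT (ModuleCat.of O ↥ω) 2) :
    Module.length O (Ext (ModuleCat.of O (O ⧸ IsLocalRing.maximalIdeal O)) (ModuleCat.of O ↥ω) 1) = 1 := by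
  obtain ⟨x, hx, hx0⟩ := Submodule.exists_mem_ne_zero_of_ne_bot
    ((IsLocalRing.isField_iff_maximalIdeal_eq (R := O)).not.1 hdim)
  set c := algebraMap O K x with hc
  have hc0 : c ≠ 0 := fun h => hx0 (IsFractionRing.injective O K (h.trans (map_zero _).symm))
  set L := (1 : Submodule O K).map (LinearMap.mulLeft O c) with hLdef
  have hLle : L ≤ 1 := by
    rintro _ ⟨y, hy, rfl⟩
    obtain ⟨b, rfl⟩ := Submodule.mem_one.1 hy
    exact Submodule.mem_one.2 ⟨x * b, map_mul _ _ _⟩
  have hL : IsLat L := ⟨fun h => by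
    have : c ∈ L := ⟨1, Submodule.mem_one.2 ⟨1, map_one _⟩, mul_one c⟩
    rw [h, Submodule.mem_bot] at this
    exact hc0 this, isLat_one.2.map _⟩
  have key := len_div_eq_mul hω hωinj hL isLat_one.2 hLle
  have hd1 : ω / (1 : Submodule O K) = ω := by
    ext y
    rw [mem_lat_dual]
    exact ⟨fun h => by simpa using h 1 (Submodule.mem_one.2 ⟨1, map_one _⟩), fun h z hz => by
      obtain ⟨b, rfl⟩ := Submodule.mem_one.1 hz
      rw [mul_comm, ← Algebra.smul_def]; exact ω.smul_mem b h⟩
  have hdL : ω / L = ω.map (LinearMap.mulLeft O c⁻¹) := by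
    ext y
    rw [mem_lat_dual]
    constructor
    · intro h
      exact ⟨y * c, h c ⟨1, Submodule.mem_one.2 ⟨1, map_one _⟩, mul_one c⟩, by
        simp only [LinearMap.mulLeft_apply]; field_simp⟩
    · rintro ⟨z, hz, rfl⟩ _ ⟨w, hw, rfl⟩
      obtain ⟨b, rfl⟩ := Submodule.mem_one.1 hw
      have : c⁻¹ * z * (c * algebraMap O K b) = b • z := by rw [Algebra.smul_def]; field_simp
      simp only [LinearMap.mulLeft_apply]
      exact this ▸ ω.smul_mem b hz
  rw [hd1, hdL] at key
  obtain ⟨d, hd0, hd⟩ := exists_smul_le isLat_one hω.2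
  set dK := algebraMap O K d with hdK
  have hdK0 : dK ≠ 0 := fun h => hd0 (IsFractionRing.injective O K (h.trans (map_zero _).symm))
  set B := ω.map (LinearMap.mulLeft O dK) with hB
  have hBle : B ≤ 1 := by
    rintro _ ⟨z, hz, rfl⟩
    simp only [LinearMap.mulLeft_apply, hdK, ← Algebra.smul_def]
    exact hd z hz
  set xB := B.map (LinearMap.mulLeft O c) with hxB
  have hxBB : xB ≤ B := by
    rintro _ ⟨z, hz, rfl⟩
    simp only [LinearMap.mulLeft_apply, hc, ← Algebra.smul_def]
    exact B.smul_mem x hz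
  have hxBL : xB ≤ L := Submodule.map_mono hBle
  have e1 := len_trans hxBL hLle
  have e2 := len_trans hxBB hBle
  have e3 : len L xB = len 1 B := len_map _ (mulLeft_injective hc0)
  rw [e3] at e1
  have hBlat : IsLat B := ⟨by
    rw [hB]
    intro h
    obtain ⟨z, hz, hz0⟩ := ω.exists_mem_ne_zero_of_ne_bot hω.1
    have : LinearMap.mulLeft O dK z ∈ (⊥ : Submodule O K) := h ▸ Submodule.mem_map_of_mem hz
    rw [Submodule.mem_bot, LinearMap.mulLeft_apply] at this
    exact mul_ne_zero hdK0 hz0 this, hω.2.map _⟩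
  have hfinB := len_ne_top (L' := (1 : Submodule O K)) hBlat isLat_one.2
  have heq : len B xB = len 1 L := by
    have := e2.symm.trans e1
    rw [add_comm (len 1 B)] at this
    exact WithTop.add_right_cancel hfinB this
  have hscale : len (ω.map (LinearMap.mulLeft O c⁻¹)) ω = len B xB := by
    have hinj := mulLeft_injective (O := O) (mul_ne_zero hdK0 hc0)
    rw [← len_map (L' := ω.map (LinearMap.mulLeft O c⁻¹)) (L := ω) _ hinj, hxB, hB, ← Submodule.map_comp, ← Submodule.map_comp]
    congr 2 <;>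
    · refine LinearMap.ext fun z => ?_
      simp only [LinearMap.comp_apply, LinearMap.mulLeft_apply]
      field_simp
  rw [hscale, heq] at key
  obtain ⟨l, hl⟩ : ∃ l : ℕ, len 1 L = l := ⟨_, (ENat.natCast_toNat (len_ne_top hL isLat_one.2)).symm⟩
  have hl0 : l ≠ 0 := by
    intro h
    rw [h, Nat.cast_zero, len, Module.length_eq_zero_iff] at hl
    have h1 : (1 : K) ∈ (1 : Submodule O K) := Submodule.mem_one.2 ⟨1, map_one _⟩
    have := (Submodule.Quotient.mk_eq_zero _).1 (hl.elim (Submodule.Quotient.mk ⟨1, h1⟩ : ↥(1 : Submodule O K) ⧸ L.comap (1 : Submodule O K).subtype) 0)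
    obtain ⟨w, hw, he⟩ := this
    obtain ⟨b, rfl⟩ := Submodule.mem_one.1 hw
    refine (IsLocalRing.mem_maximalIdeal _).1 hx (IsUnit.of_mul_eq_one b (IsFractionRing.injective O K ?_))
    rw [map_mul, map_one]; exact he
  rw [hl] at key
  revert key
  generalize Module.length O (Ext (ModuleCat.of O (O ⧸ IsLocalRing.maximalIdeal O)) (ModuleCat.of O ↥ω) 1) = r
  intro key
  cases r with
  | top => rw [ENat.top_mul (by exact_mod_cast hl0)] at key; exact absurd key (ENat.coe_ne_top l)
  | coe r =>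
    have : l = r * l := by exact_mod_cast key
    have : r = 1 := Nat.eq_of_mul_eq_mul_right (Nat.pos_of_ne_zero hl0) (by omega)
    rw [this]; rfl

/-- Duality preserves lengths. -/
theorem len_div (hdim : ¬ IsField O) (hω : IsLat ω) (hωinj : HasInjectiveDimensionLT (ModuleCat.of O ↥ω) 2)
    {L L' : Submodule O K} (hL : IsLat L) (hL' : L'.FG) (hle : L ≤ L') : len (ω / L) (ω / L') = len L' L := by
  rw [len_div_eq_mul hω hωinj hL hL' hle, type_one hdim hω hωinj, one_mul]

omit [IsNoetherianRing O] [IsLocalRing O] [Ring.KrullDimLE 1 O] in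
theorem le_div_div (L : Submodule O K) : L ≤ ω / (ω / L) := fun x hx =>
  mem_lat_dual.2 fun y hy => mul_comm y x ▸ mem_lat_dual.1 hy x hx

omit [IsNoetherianRing O] [IsLocalRing O] [Ring.KrullDimLE 1 O] in
theorem div_anti {L L' : Submodule O K} (h : L ≤ L') : ω / L' ≤ ω / L := fun _ hx =>
  mem_lat_dual.2 fun y hy => mem_lat_dual.1 hx y (h hy)

/-- Lattices are reflexive for a canonical ideal. -/
theorem div_div (hdim : ¬ IsField O) (hω : IsLat ω) (hωinj : HasInjectiveDimensionLT (ModuleCat.of O ↥ω) 2)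
    {L : Submodule O K} (hL : IsLat L) : ω / (ω / L) = L := by
  have hdef : ∀ M L : Submodule O K, IsLat M → IsLat L → M ≤ L → len (ω / (ω / L)) L = len (ω / (ω / M)) M := by
    intro M L hM hL hML
    have hL2 := isLat_div hω (isLat_div hω hL)
    have hM2 := isLat_div hω (isLat_div hω hM)
    have hmono : ω / (ω / M) ≤ ω / (ω / L) := div_anti (div_anti hML)
    have h1 : len (ω / (ω / L)) (ω / (ω / M)) = len L M := by
      rw [len_div hdim hω hωinj (isLat_div hω hL) (isLat_div hω hM).2 (div_anti hML),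
        len_div hdim hω hωinj hM hL.2 hML]
    have e := (len_trans hML (le_div_div (ω := ω) L)).symm.trans (len_trans (le_div_div (ω := ω) M) hmono)
    rw [h1] at e
    rw [add_comm] at e
    exact WithTop.add_right_cancel (len_ne_top hM hL.2) e
  have hzero : len (ω / (ω / (ω / L))) (ω / L) = 0 := by
    rw [show ω / (ω / (ω / L)) = ω / L from le_antisymm (div_anti (le_div_div L)) (le_div_div _), len_self]
  obtain ⟨a, ha, hle⟩ := exists_smul_le (isLat_div hω hL) hL.2
  set L₀ := L.map (LinearMap.lsmul O K a) with hL₀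
  have h0L : L₀ ≤ L := by rintro _ ⟨z, hz, rfl⟩; exact L.smul_mem a hz
  have h0D : L₀ ≤ ω / L := by rintro _ ⟨z, hz, rfl⟩; exact hle z hz
  have hL0 : IsLat L₀ := ⟨fun h => by
    obtain ⟨z, hz, hz0⟩ := L.exists_mem_ne_zero_of_ne_bot hL.1
    have : a • z ∈ (⊥ : Submodule O K) := h ▸ Submodule.mem_map_of_mem (f := LinearMap.lsmul O K a) hz
    rw [Submodule.mem_bot, Algebra.smul_def] at this
    exact mul_ne_zero (fun h' => ha (IsFractionRing.injective O K (h'.trans (map_zero _).symm))) hz0 this, hL.2.map _⟩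
  have h := hdef L₀ L hL0 hL h0L
  rw [← hdef L₀ (ω / L) hL0 (isLat_div hω hL) h0D, hzero, len, Module.length_eq_zero_iff,
    Submodule.Quotient.subsingleton_iff, Submodule.comap_subtype_eq_top] at h
  exact le_antisymm h (le_div_div L)

/-- The dual of an overring above the canonical ideal is its conductor. -/
theorem div_eq_conductor (hdim : ¬ IsField O) (hω : IsLat ω) (hωinj : HasInjectiveDimensionLT (ModuleCat.of O ↥ω) 2)
    (hω1 : (1 : Submodule O K) ≤ ω) (B : Subalgebra O K) (hω2 : ω ≤ Subalgebra.toSubmodule B) :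
    ω / Subalgebra.toSubmodule B = (1 : Submodule O K) / Subalgebra.toSubmodule B := by
  refine le_antisymm (fun x hx => mem_lat_dual.2 fun b hb => ?_) (fun x hx => mem_lat_dual.2 fun b hb => hω1 (mem_lat_dual.1 hx b hb))
  have h : x * b ∈ ω / ω := mem_lat_dual.2 fun w hw => by
    rw [mul_assoc]; exact mem_lat_dual.1 hx _ (B.mul_mem hb (hω2 hw))
  have hone : ω / ω = (1 : Submodule O K) := by
    have hd1 : ω / (1 : Submodule O K) = ω := le_antisymm
      (fun y hy => by simpa using mem_lat_dual.1 hy 1 (Submodule.mem_one.2 ⟨1, map_one _⟩))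
      (fun y hy => mem_lat_dual.2 fun z hz => by
        obtain ⟨q, rfl⟩ := Submodule.mem_one.1 hz
        rw [mul_comm, ← Algebra.smul_def]; exact ω.smul_mem q hy)
    have := div_div hdim hω hωinj (isLat_one (O := O) (K := K))
    rwa [hd1] at this
  exact hone ▸ h

end Groth.Agent.TFExt
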