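import Groth.Agent.TFExt.Canonical
import Groth.Agent.DomDual.Basic

/-!
# Ext groups of modules and of their canonical duals
-/

set_option autoImplicit false

universe u

open CategoryTheory CategoryTheory.Abelian

namespace Groth.Agent.TFExt

variable {A : Type u} [CommRing A] [IsDomain A] [IsNoetherianRing A] {W : Type u} [AddCommGroup W] [Module A W]
  [Module.Finite A W] [Module.IsTorsionFree A W]

/-- Vanishing of higher Ext into the module on finite torsion-free modules. -/
def VanishExt (A : Type u) [CommRing A] (W : Type u) [AddCommGroup W] [Module A W] : Prop :=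
  ∀ (C : Type u) [AddCommGroup C] [Module A C] [Module.Finite A C] [Module.IsTorsionFree A C] (i : ℕ), 1 ≤ i →
    Subsingleton (Ext (ModuleCat.of A C) (ModuleCat.of A W) i)

/-- Biduality map into double duals with values in the module. -/
def evalW (A : Type u) [CommRing A] (W : Type u) [AddCommGroup W] [Module A W] (M : Type u) [AddCommGroup M] [Module A M] :
    M →ₗ[A] ((M →ₗ[A] W) →ₗ[A] W) := (LinearMap.id (R := A) (M := M →ₗ[A] W)).flip

omit [IsDomain A] [IsNoetherianRing A] [Module.Finite A W] [Module.IsTorsionFree A W] in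
theorem exists_lift (H : VanishExt A W) {K F C : Type u} [AddCommGroup K] [Module A K] [AddCommGroup F] [Module A F]
    [AddCommGroup C] [Module A C] [Module.Finite A C] [Module.IsTorsionFree A C] (f : K →ₗ[A] F) (g : F →ₗ[A] C)
    (hf : Function.Injective f) (hg : Function.Surjective g) (hfg : Function.Exact f g) (ψ : K →ₗ[A] W) :
    ∃ χ : F →ₗ[A] W, χ.comp f = ψ := by
  let S : ShortComplex (ModuleCat.{u} A) := ShortComplex.mk (ModuleCat.ofHom f) (ModuleCat.ofHom g) (by
    ext x; exact hfg.apply_apply_eq_zero x)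
  have hS : S.ShortExact := by
    refine { exact := ?_, mono_f := ?_, epi_g := ?_ }
    · rw [ShortComplex.moduleCat_exact_iff_ker_sub_range]
      intro x hx
      exact (hfg x).1 hx
    · exact (ModuleCat.mono_iff_injective _).2 hf
    · exact (ModuleCat.epi_iff_surjective _).2 hg
  haveI := H C 1 le_rfl
  obtain ⟨x₂, hx₂⟩ := Ext.contravariant_sequence_exact₁ hS (ModuleCat.of A W)
    (Ext.mk₀ (ModuleCat.ofHom ψ : S.X₁ ⟶ ModuleCat.of A W)) (n₁ := 1) rfl (Subsingleton.elim _ _)
  obtain ⟨χ, rfl⟩ := (Ext.mk₀_bijective S.X₂ (ModuleCat.of A W)).2 x₂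
  rw [Ext.mk₀_comp_mk₀] at hx₂
  exact ⟨χ.hom, congrArg ModuleCat.Hom.hom ((Ext.mk₀_bijective _ _).1 hx₂)⟩

omit [IsDomain A] [IsNoetherianRing A] [Module.Finite A W] [Module.IsTorsionFree A W] in
theorem exact_dual {K F C : Type u} [AddCommGroup K] [Module A K] [AddCommGroup F] [Module A F]
    [AddCommGroup C] [Module A C] (f : K →ₗ[A] F) (g : F →ₗ[A] C) (hg : Function.Surjective g)
    (hfg : Function.Exact f g) : Function.Exact (g.lcomp A W) (f.lcomp A W) := by
  intro χ
  constructor
  · intro h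
    have hk : LinearMap.ker g ≤ LinearMap.ker χ := fun y hy => by
      obtain ⟨x, rfl⟩ := (hfg y).1 hy
      exact LinearMap.congr_fun h x
    refine ⟨((LinearMap.ker g).liftQ χ hk).comp (g.quotKerEquivOfSurjective hg).symm.toLinearMap, LinearMap.ext fun y => ?_⟩
    show (LinearMap.ker g).liftQ χ hk ((g.quotKerEquivOfSurjective hg).symm (g y)) = χ y
    rw [show (g.quotKerEquivOfSurjective hg).symm (g y) = Submodule.Quotient.mk y from
      (LinearEquiv.symm_apply_eq _).2 rfl]
    rfl
  · rintro ⟨ξ, rfl⟩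
    refine LinearMap.ext fun y => ?_
    show ξ (g (f y)) = 0
    rw [hfg.apply_apply_eq_zero, map_zero]

/-- The duals of finite modules are finite and torsion-free. -/
theorem dual_props (M : Type u) [AddCommGroup M] [Module A M] [Module.Finite A M] :
    Module.Finite A (M →ₗ[A] W) ∧ Module.IsTorsionFree A (M →ₗ[A] W) := ⟨inferInstance, inferInstance⟩

/-- Finite torsion-free modules are reflexive. -/
theorem evalW_bijective (H : VanishExt A W) (hW : ∃ w : W, w ≠ 0) (hEnd : ∀ φ : W →ₗ[A] W, ∃ a : A, ∀ x, φ x = a • x)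
    (M : Type u) [AddCommGroup M] [Module A M] [Module.Finite A M] [Module.IsTorsionFree A M] :
    Function.Bijective (evalW A W M) := by
  classical
  obtain ⟨w, hw⟩ := hW
  constructor
  · rw [injective_iff_map_eq_zero]
    intro m hm
    refine (Groth.Agent.DomDual.eval_injective (R := A) M) (LinearMap.ext fun χ => ?_)
    have := LinearMap.congr_fun hm ((LinearMap.toSpanSingleton A W w).comp χ)
    change χ m • w = 0 at this
    rw [map_zero, LinearMap.zero_apply, Module.Dual.eval_apply]
    exact (smul_eq_zero.1 this).resolve_right hw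
  · intro Ξ
    obtain ⟨n, p, hp⟩ := Module.Finite.exists_fin' A M
    let f := (LinearMap.ker p).subtype
    have hfp : Function.Exact f p := LinearMap.exact_subtype_ker_map p
    let C := LinearMap.range (f.lcomp A W)
    have hsurj : Function.Surjective (f.lcomp A W) := fun ψ =>
      exists_lift H f p (Submodule.injective_subtype _) hp hfp ψ
    have hinj : Function.Injective (p.lcomp A W) := fun a b h => LinearMap.ext fun y => by
      obtain ⟨x, rfl⟩ := hp y
      exact LinearMap.congr_fun h x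
    obtain ⟨Ξ', hΞ'⟩ := exists_lift H (p.lcomp A W) (f.lcomp A W) hinj hsurj (exact_dual f p hp hfp) Ξ
    choose a ha using fun j => hEnd (Ξ'.comp
      ({ toFun := fun x => (LinearMap.toSpanSingleton A W x).comp (LinearMap.proj j)
         map_add' := fun x y => LinearMap.ext fun v => smul_add (v j) x y
         map_smul' := fun r x => LinearMap.ext fun v => smul_comm (v j) r x } : W →ₗ[A] ((Fin n → A) →ₗ[A] W)))
    refine ⟨p a, LinearMap.ext fun φ => ?_⟩
    show φ (p a) = Ξ φ
    rw [← hΞ']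
    show (φ.comp p) a = Ξ' (φ.comp p)
    generalize φ.comp p = χ
    have e : χ = ∑ j, (LinearMap.toSpanSingleton A W (χ (Pi.single j 1))).comp (LinearMap.proj j) := by
      refine LinearMap.ext fun v => ?_
      rw [LinearMap.sum_apply]
      conv_lhs => rw [pi_eq_sum_univ' v, map_sum]
      exact Finset.sum_congr rfl fun j _ => by rw [map_smul]; rfl
    have hsum : χ a = ∑ j, a j • χ (Pi.single j 1) := by
      conv_lhs => rw [pi_eq_sum_univ' a, map_sum]
      exact Finset.sum_congr rfl fun j _ => map_smul χ _ _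
    rw [hsum]
    conv_rhs => rw [e, map_sum]
    exact Finset.sum_congr rfl fun j _ => (ha j (χ (Pi.single j 1))).symm

omit [IsDomain A] [IsNoetherianRing A] [Module.Finite A W] [Module.IsTorsionFree A W] in
theorem subsingleton_ext_dual_free (H : VanishExt A W) (C : Type u) [AddCommGroup C] [Module A C] [Module.Finite A C]
    [Module.IsTorsionFree A C] (n i : ℕ) (hi : 1 ≤ i) :
    Subsingleton (Ext (ModuleCat.of A C) (ModuleCat.of A ((Fin n → A) →ₗ[A] W)) i) := by
  haveI := H C i hi
  let p : Fin n → (ModuleCat.of A ((Fin n → A) →ₗ[A] W) ⟶ ModuleCat.of A W) := fun j =>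
    ModuleCat.ofHom (LinearMap.applyₗ (Pi.single j 1))
  let s : Fin n → (ModuleCat.of A W ⟶ ModuleCat.of A ((Fin n → A) →ₗ[A] W)) := fun j =>
    ModuleCat.ofHom
      { toFun := fun x => (LinearMap.toSpanSingleton A W x).comp (LinearMap.proj j)
        map_add' := fun x y => LinearMap.ext fun v => smul_add (v j) x y
        map_smul' := fun r x => LinearMap.ext fun v => smul_comm (v j) r x }
  have hid : ∑ j, p j ≫ s j = 𝟙 _ := by
    refine ModuleCat.hom_ext (LinearMap.ext fun φ => ?_)
    rw [ModuleCat.hom_sum, LinearMap.sum_apply]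
    refine LinearMap.ext fun v => ?_
    rw [LinearMap.sum_apply]
    show ∑ j, v j • φ (Pi.single j 1) = φ v
    conv_rhs => rw [pi_eq_sum_univ' v, map_sum]
    exact Finset.sum_congr rfl fun j _ => (map_smul φ _ _).symm
  refine subsingleton_of_forall_eq 0 fun z => ?_
  rw [← Ext.comp_mk₀_id z, ← hid, Ext.mk₀_sum, Ext.comp_sum]
  refine Finset.sum_eq_zero fun j _ => ?_
  rw [← Ext.mk₀_comp_mk₀, ← Ext.comp_assoc_of_third_deg_zero, Subsingleton.elim (z.comp (Ext.mk₀ (p j)) (add_zero i)) 0,
    Ext.zero_comp]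

omit [IsDomain A] [IsNoetherianRing A] [Module.Finite A W] [Module.IsTorsionFree A W] in
/-- The connecting map is bijective between vanishing terms. -/
theorem shift_contra {X₁ X₂ X₃ Y : ModuleCat.{u} A} (f : X₁ ⟶ X₂) (g : X₂ ⟶ X₃) (w : f ≫ g = 0)
    (hS : (ShortComplex.mk f g w).ShortExact) (i : ℕ) (h₁ : Subsingleton (Ext X₂ Y i))
    (h₂ : Subsingleton (Ext X₂ Y (i + 1))) : Nonempty (Ext X₁ Y i ≃+ Ext X₃ Y (i + 1)) := by
  let φ : Ext X₁ Y i →+ Ext X₃ Y (i + 1) :=
    { toFun := fun z => hS.extClass.comp z (add_comm 1 i)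
      map_zero' := by simp
      map_add' := fun x y => by simp }
  refine ⟨AddEquiv.ofBijective φ ⟨(injective_iff_map_eq_zero _).2 fun z hz => ?_, fun z => ?_⟩⟩
  · obtain ⟨z₂, rfl⟩ := Ext.contravariant_sequence_exact₁ hS Y z (add_comm 1 i) hz
    rw [h₁.elim z₂ 0, Ext.comp_zero]
  · obtain ⟨z₁, hz₁⟩ := Ext.contravariant_sequence_exact₃ hS Y z (h₂.elim _ _) (add_comm 1 i)
    exact ⟨z₁, hz₁⟩

omit [IsDomain A] [IsNoetherianRing A] [Module.Finite A W] [Module.IsTorsionFree A W] in
/-- The connecting map of the second variable is bijective between vanishing terms. -/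
theorem shift_cov {X X₁ X₂ X₃ : ModuleCat.{u} A} (f : X₁ ⟶ X₂) (g : X₂ ⟶ X₃) (w : f ≫ g = 0)
    (hS : (ShortComplex.mk f g w).ShortExact) (i : ℕ) (h₁ : Subsingleton (Ext X X₂ i))
    (h₂ : Subsingleton (Ext X X₂ (i + 1))) : Nonempty (Ext X X₃ i ≃+ Ext X X₁ (i + 1)) := by
  let φ : Ext X X₃ i →+ Ext X X₁ (i + 1) :=
    { toFun := fun z => z.comp hS.extClass rfl
      map_zero' := by simp
      map_add' := fun x y => by simp }
  refine ⟨AddEquiv.ofBijective φ ⟨(injective_iff_map_eq_zero _).2 fun z hz => ?_, fun z => ?_⟩⟩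
  · obtain ⟨z₂, rfl⟩ := Ext.covariant_sequence_exact₃ X hS z rfl hz
    rw [h₁.elim z₂ 0, Ext.zero_comp]
  · obtain ⟨z₁, hz₁⟩ := Ext.covariant_sequence_exact₁ X hS z (h₂.elim _ _) (n₀ := i) rfl
    exact ⟨z₁, hz₁⟩

/-- Ext groups of a pair and of the pair of duals in the opposite order. -/
theorem ext_dual_equiv (H : VanishExt A W) (hW : ∃ w : W, w ≠ 0) (hEnd : ∀ φ : W →ₗ[A] W, ∃ a : A, ∀ x, φ x = a • x)
    (i : ℕ) : ∀ (M N : Type u) [AddCommGroup M] [Module A M] [Module.Finite A M] [Module.IsTorsionFree A M]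
      [AddCommGroup N] [Module A N] [Module.Finite A N] [Module.IsTorsionFree A N],
    Nonempty (Ext (ModuleCat.of A M) (ModuleCat.of A N) i ≃+
      Ext (ModuleCat.of A (N →ₗ[A] W)) (ModuleCat.of A (M →ₗ[A] W)) i) := by
  induction i with
  | zero =>
    intro M N _ _ _ _ _ _ _ _
    let ev : N ≃ₗ[A] ((N →ₗ[A] W) →ₗ[A] W) := LinearEquiv.ofBijective _ (evalW_bijective H hW hEnd N)
    let θ : (M →ₗ[A] N) ≃ₗ[A] ((N →ₗ[A] W) →ₗ[A] (M →ₗ[A] W)) := (LinearEquiv.congrRight ev).trans LinearMap.lflip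
    exact ⟨Ext.addEquiv₀.trans (ModuleCat.homAddEquiv.trans (θ.toAddEquiv.trans
      ((ModuleCat.homAddEquiv (M := ModuleCat.of A (N →ₗ[A] W)) (N := ModuleCat.of A (M →ₗ[A] W))).symm.trans
        (Ext.addEquiv₀ (X := ModuleCat.of A (N →ₗ[A] W)) (Y := ModuleCat.of A (M →ₗ[A] W))).symm)))⟩
  | succ i ih =>
    intro M N _ _ _ _ _ _ _ _
    obtain ⟨n, p, hp⟩ := Module.Finite.exists_fin' A M
    let f := (LinearMap.ker p).subtype
    have hfp : Function.Exact f p := LinearMap.exact_subtype_ker_map p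
    have hinj : Function.Injective (p.lcomp A W) := fun a b h => LinearMap.ext fun y => by
      obtain ⟨x, rfl⟩ := hp y
      exact LinearMap.congr_fun h x
    have hsurj : Function.Surjective (f.lcomp A W) := fun ψ =>
      exists_lift H f p (Submodule.injective_subtype _) hp hfp ψ
    rcases i with _ | i
    · obtain ⟨e₁⟩ := ext_one_of_presentation (N := N) f p (Submodule.injective_subtype _) hp hfp
      obtain ⟨e₂⟩ := ext_one_of_copresentation (J := N →ₗ[A] W) (p.lcomp A W) (f.lcomp A W) hinj hsurj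
        (exact_dual f p hp hfp) (subsingleton_ext_dual_free H _ n 1 le_rfl)
      let ev : N ≃ₗ[A] ((N →ₗ[A] W) →ₗ[A] W) := LinearEquiv.ofBijective _ (evalW_bijective H hW hEnd N)
      let θ : (↥(LinearMap.ker p) →ₗ[A] N) ≃ₗ[A] ((N →ₗ[A] W) →ₗ[A] (↥(LinearMap.ker p) →ₗ[A] W)) :=
        (LinearEquiv.congrRight ev).trans LinearMap.lflip
      refine ⟨(e₁.trans ((Submodule.Quotient.equiv _ _ θ ?_).trans e₂.symm)).toAddEquiv⟩
      ext χ
      simp only [Submodule.mem_map, LinearMap.mem_range]
      constructor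
      · rintro ⟨_, ⟨ψ, rfl⟩, rfl⟩
        exact ⟨ψ.lcomp A W, rfl⟩
      · rintro ⟨ω, rfl⟩
        refine ⟨_, ⟨ev.symm.toLinearMap.comp ω.flip, rfl⟩, ?_⟩
        refine LinearMap.ext fun ξ => LinearMap.ext fun x => ?_
        show ev (ev.symm (ω.flip (f x))) ξ = ω ξ (f x)
        rw [ev.apply_symm_apply]
        rfl
    · have w₁ : ModuleCat.ofHom f ≫ ModuleCat.ofHom p = 0 := by ext x; exact hfp.apply_apply_eq_zero x
      have hS : (ShortComplex.mk _ _ w₁).ShortExact :=
        { exact := (ShortComplex.ShortExact.moduleCat_exact_iff_function_exact _).2 hfp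
          mono_f := (ModuleCat.mono_iff_injective _).2 (Submodule.injective_subtype _)
          epi_g := (ModuleCat.epi_iff_surjective _).2 hp }
      have hd := exact_dual (W := W) f p hp hfp
      have w₂ : ModuleCat.ofHom (p.lcomp A W) ≫ ModuleCat.ofHom (f.lcomp A W) = 0 :=
        ModuleCat.hom_ext (LinearMap.ext fun x => hd.apply_apply_eq_zero x)
      have hS' : (ShortComplex.mk _ _ w₂).ShortExact :=
        { exact := (ShortComplex.ShortExact.moduleCat_exact_iff_function_exact _).2 hd
          mono_f := (ModuleCat.mono_iff_injective _).2 hinj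
          epi_g := (ModuleCat.epi_iff_surjective _).2 hsurj }
      haveI : Projective (ModuleCat.of A (Fin n → A)) := ModuleCat.projective_of_free (Pi.basisFun A (Fin n))
      obtain ⟨s₁⟩ := shift_contra (Y := ModuleCat.of A N) _ _ w₁ hS (i + 1)
        (subsingleton_of_forall_eq 0 Ext.eq_zero_of_projective) (subsingleton_of_forall_eq 0 Ext.eq_zero_of_projective)
      obtain ⟨s₂⟩ := shift_cov (X := ModuleCat.of A (N →ₗ[A] W)) _ _ w₂ hS' (i + 1)
        (subsingleton_ext_dual_free H _ n (i + 1) (by omega)) (subsingleton_ext_dual_free H _ n (i + 2) (by omega))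
      obtain ⟨e⟩ := ih ↥(LinearMap.ker p) N
      exact ⟨s₁.symm.trans (e.trans s₂)⟩

end Groth.Agent.TFExt
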