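import Groth.Agent.TFExt.Canonical
import Groth.Agent.Semigroup.Basic
import Groth.Agent.GaloisStage.EakinNagata

/-!
# Value sets of duals over unibranch curve rings
-/

set_option autoImplicit false

universe u

open PowerSeries

namespace Groth.Agent.TFExt

variable {k : Type u} [Field k] {A : Subalgebra k (PowerSeries k)} {c : ℕ}

/-- Series vanishing to the conductor order lie in the subalgebra. -/
def CondMem (A : Subalgebra k (PowerSeries k)) (c : ℕ) : Prop := ∀ f : PowerSeries k, (c : ℕ∞) ≤ f.order → f ∈ A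

theorem cond_X_pow_mul (h : CondMem A c) (f : PowerSeries k) : X ^ c * f ∈ A :=
  h _ (by rw [order_mul, order_X_pow]; exact le_self_add)

theorem isUnit_of_constantCoeff (h : CondMem A c) (a : ↥A) (ha : constantCoeff (a : PowerSeries k) ≠ 0) : IsUnit a := by
  set r := constantCoeff (a : PowerSeries k)
  set z : PowerSeries k := 1 - PowerSeries.C r⁻¹ * (a : PowerSeries k) with hz
  have hzA : z ∈ A := A.sub_mem A.one_mem (A.mul_mem (by rw [PowerSeries.C_eq_algebraMap]; exact A.algebraMap_mem _) a.2)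
  have hz0 : constantCoeff z = 0 := by simp [hz, r, inv_mul_cancel₀ ha]
  obtain ⟨v, hv⟩ : IsUnit (1 - z) := isUnit_iff_constantCoeff.2 (by simp [hz0])
  have hinv : ((v⁻¹ : (PowerSeries k)ˣ) : PowerSeries k) = ∑ m ∈ Finset.range c, z ^ m + z ^ c * (v⁻¹ : (PowerSeries k)ˣ) := by
    have h1 := geom_sum_mul_neg z c
    rw [← hv] at h1
    have h2 := congrArg (· * ((v⁻¹ : (PowerSeries k)ˣ) : PowerSeries k)) h1
    simp only [mul_assoc, Units.mul_inv, mul_one, sub_mul, one_mul] at h2
    rw [h2]; ring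
  have hinvA : ((v⁻¹ : (PowerSeries k)ˣ) : PowerSeries k) ∈ A := by
    rw [hinv]
    obtain ⟨w, hw⟩ := X_dvd_iff.2 hz0
    refine A.add_mem (A.sum_mem fun m _ => pow_mem hzA m) ?_
    rw [hw, mul_pow, mul_assoc]
    exact cond_X_pow_mul h _
  refine IsUnit.of_mul_eq_one (⟨((v⁻¹ : (PowerSeries k)ˣ) : PowerSeries k) * PowerSeries.C r⁻¹,
    A.mul_mem hinvA (by rw [PowerSeries.C_eq_algebraMap]; exact A.algebraMap_mem _)⟩ : ↥A) (Subtype.ext ?_)
  have h3 : (v : PowerSeries k) = PowerSeries.C r⁻¹ * (a : PowerSeries k) := by rw [hv, hz]; ring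
  simp only [Subalgebra.coe_mul, Subalgebra.coe_one]
  rw [mul_comm, mul_assoc, ← h3, Units.inv_mul]

theorem constantCoeff_of_isUnit (a : ↥A) (ha : IsUnit a) : constantCoeff (a : PowerSeries k) ≠ 0 :=
  (isUnit_iff_constantCoeff.1 (ha.map A.val)).ne_zero

theorem cond_local (h : CondMem A c) : IsLocalRing ↥A := IsLocalRing.of_nonunits_add fun a b ha hb hab => by
  have ha0 : constantCoeff (a : PowerSeries k) = 0 := by by_contra hne; exact ha (isUnit_of_constantCoeff h a hne)
  have hb0 : constantCoeff (b : PowerSeries k) = 0 := by by_contra hne; exact hb (isUnit_of_constantCoeff h b hne)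
  exact constantCoeff_of_isUnit _ hab (by simp [ha0, hb0])

theorem cond_residue (h : CondMem A c) (P : Ideal ↥A) (hP : P.IsMaximal) (a : ↥A) :
    ∃ r : k, a - algebraMap k ↥A r ∈ P := by
  haveI := cond_local h
  refine ⟨constantCoeff (a : PowerSeries k), ?_⟩
  rw [IsLocalRing.eq_maximalIdeal hP, IsLocalRing.mem_maximalIdeal]
  exact fun hu => constantCoeff_of_isUnit _ hu (by simp [← PowerSeries.C_eq_algebraMap])

theorem cond_dim (h : CondMem A c) : Ring.KrullDimLE 1 ↥A ∧ ¬ IsField ↥A := by
  haveI := cond_local h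
  constructor
  · refine Ring.krullDimLE_one_iff_of_noZeroDivisors.2 fun P hP0 hP => ?_
    obtain ⟨x, hxP, hx0⟩ := Submodule.exists_mem_ne_zero_of_ne_bot hP0
    have hx0' : (x : PowerSeries k) ≠ 0 := fun h0 => hx0 (Subtype.ext h0)
    obtain ⟨o, ho⟩ := ENat.ne_top_iff_exists.mp (fun htop => hx0' (order_eq_top.mp htop))
    obtain ⟨w, hw⟩ : ∃ w, (x : PowerSeries k) = X ^ o * w := X_pow_dvd_iff.2 fun m hm =>
      coeff_of_lt_order m (by rw [← ho]; exact_mod_cast hm)
    have hw0 : constantCoeff w ≠ 0 := fun h0 => by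
      refine (order_eq_nat.1 ho.symm).1 ?_
      rw [hw, coeff_X_pow_mul', if_pos le_rfl, Nat.sub_self, coeff_zero_eq_constantCoeff_apply, h0]
    obtain ⟨v, hv⟩ : IsUnit w := isUnit_iff_constantCoeff.2 (isUnit_iff_ne_zero.2 hw0)
    have hmax : IsLocalRing.maximalIdeal ↥A ≤ P := by
      intro g hg
      have hg0 : constantCoeff (g : PowerSeries k) = 0 := by
        by_contra hne
        exact (IsLocalRing.mem_maximalIdeal g).1 hg (isUnit_of_constantCoeff h g hne)
      obtain ⟨q, hq⟩ := X_dvd_iff.2 hg0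
      refine hP.mem_of_pow_mem (o + c) ?_
      have e : g ^ (o + c) = (⟨X ^ c * (((v⁻¹ : (PowerSeries k)ˣ) : PowerSeries k) * q ^ (o + c)), cond_X_pow_mul h _⟩ : ↥A) * x :=
        Subtype.ext (by
          simp only [SubmonoidClass.coe_pow, Subalgebra.coe_mul]
          rw [hw, ← hv, hq, mul_pow, pow_add X o c]
          linear_combination -(X ^ c * X ^ o * q ^ (o + c)) * v.inv_mul)
      rw [e]
      exact P.mul_mem_left _ hxP
    exact (le_antisymm (IsLocalRing.le_maximalIdeal hP.ne_top) hmax) ▸ IsLocalRing.maximalIdeal.isMaximal _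
  · intro hf
    have hX : X ^ (c + 1) ∈ A := by rw [pow_succ]; exact cond_X_pow_mul h _
    obtain ⟨y, hy⟩ := hf.mul_inv_cancel (a := (⟨_, hX⟩ : ↥A)) fun h0 =>
      pow_ne_zero (c + 1) (X_ne_zero (R := k)) (congrArg Subtype.val h0)
    exact constantCoeff_of_isUnit _ (IsUnit.of_mul_eq_one y hy) (by simp)

theorem cond_frac (h : CondMem A c) : IsFractionRing ↥A (FractionRing (PowerSeries k)) := by
  haveI : FaithfulSMul ↥A (FractionRing (PowerSeries k)) := (faithfulSMul_iff_algebraMap_injective _ _).2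
    fun a b hab => Subtype.ext (IsFractionRing.injective (PowerSeries k) (FractionRing (PowerSeries k)) hab)
  refine IsFractionRing.of_field _ _ fun z => ?_
  obtain ⟨p, q, hq, rfl⟩ := IsFractionRing.div_surjective (PowerSeries k) z
  refine ⟨⟨X ^ c * p, cond_X_pow_mul h p⟩, ⟨X ^ c * q, cond_X_pow_mul h q⟩, ?_⟩
  refine Eq.symm ?_
  show algebraMap (PowerSeries k) (FractionRing (PowerSeries k)) (X ^ c * p) /
    algebraMap (PowerSeries k) (FractionRing (PowerSeries k)) (X ^ c * q) = _
  rw [map_mul, map_mul, mul_div_mul_left _ _ ((map_ne_zero_iff _ (IsFractionRing.injective _ _)).2 (pow_ne_zero c X_ne_zero))]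

open Classical in
/-- The missing orders below the conductor. -/
noncomputable def gaps (W : Submodule ↥A (PowerSeries k)) (c : ℕ) : Finset ℕ :=
  (Finset.range c).filter fun n => ∀ f ∈ W, f.order ≠ (n : ℕ∞)

theorem mem_gaps {W : Submodule ↥A (PowerSeries k)} {n : ℕ} :
    n ∈ gaps W c ↔ n < c ∧ ∀ f ∈ W, f.order ≠ (n : ℕ∞) := by
  classical
  rw [gaps, Finset.mem_filter, Finset.mem_range]

theorem finrank_gaps (W : Submodule ↥A (PowerSeries k)) (hW : ∀ f : PowerSeries k, (c : ℕ∞) ≤ f.order → f ∈ W) :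
    Module.finrank k (PowerSeries k ⧸ W.restrictScalars k) = (gaps W c).card ∧
      Module.Finite k (PowerSeries k ⧸ W.restrictScalars k) := by
  classical
  set G := gaps W c
  let L : (↥G → k) →ₗ[k] PowerSeries k :=
    { toFun := fun v => ∑ g, v g • X ^ (g : ℕ)
      map_add' := fun v w => by simp [add_smul, Finset.sum_add_distrib]
      map_smul' := fun r v => by simp [smul_smul, Finset.smul_sum] }
  have hcoeff : ∀ v m, coeff m (L v) = if hm : m ∈ G then v ⟨m, hm⟩ else 0 := by
    intro v m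
    show coeff m (∑ g, v g • X ^ (g : ℕ)) = _
    rw [map_sum]
    by_cases hm : m ∈ G
    · rw [dif_pos hm, Finset.sum_eq_single (⟨m, hm⟩ : ↥G) (fun g _ hg => ?_) (by simp)]
      · simp [coeff_X_pow]
      · simp [coeff_X_pow, show m ≠ (g : ℕ) from fun h => hg (Subtype.ext h.symm)]
    · rw [dif_neg hm]
      exact Finset.sum_eq_zero fun g _ => by simp [coeff_X_pow, show m ≠ (g : ℕ) from fun h => hm (h ▸ g.2)]
  let q := (W.restrictScalars k).mkQ ∘ₗ L
  have hinj : Function.Injective q := by
    rw [← LinearMap.ker_eq_bot, LinearMap.ker_eq_bot']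
    intro v hv
    have hmem : L v ∈ W := (Submodule.Quotient.mk_eq_zero _).mp hv
    by_contra hne
    have hLne : L v ≠ 0 := fun h => hne (funext fun g => by
      have := hcoeff v g
      rw [h, map_zero, dif_pos g.2] at this
      exact this.symm)
    obtain ⟨n, hn⟩ := ENat.ne_top_iff_exists.mp (fun htop => hLne (order_eq_top.mp htop))
    have h1 := (order_eq_nat.mp hn.symm).1
    rw [hcoeff] at h1
    split_ifs at h1 with hnG
    · exact (mem_gaps.1 hnG).2 _ hmem hn.symm
    · exact h1 rfl
  have hsurj : Function.Surjective q := by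
    have key : ∀ j, ∀ f : PowerSeries k, ((c - j : ℕ) : ℕ∞) ≤ f.order → f ∈ W.restrictScalars k ⊔ LinearMap.range L := by
      intro j
      induction j with
      | zero => intro f hf; exact Submodule.mem_sup_left (hW f hf)
      | succ j ih =>
        intro f hf
        by_cases hj : c - (j + 1) = c - j
        · exact ih f (hj ▸ hf)
        set n := c - (j + 1) with hn
        have hstep : ∀ g : PowerSeries k, coeff n g = 1 → (∀ i, i < n → coeff i g = 0) →
            g ∈ W.restrictScalars k ⊔ LinearMap.range L → f ∈ W.restrictScalars k ⊔ LinearMap.range L := by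
          intro g hg1 hg0 hgm
          have h2 : f - coeff n f • g ∈ W.restrictScalars k ⊔ LinearMap.range L := ih _ (nat_le_order _ _ fun i hi => by
            rw [map_sub, map_smul, smul_eq_mul]
            rcases lt_or_eq_of_le (show i ≤ n by omega) with hlt | rfl
            · rw [hg0 i hlt, coeff_of_lt_order i (lt_of_lt_of_le (by exact_mod_cast hlt) hf)]; ring
            · rw [hg1, mul_one, sub_self])
          have := Submodule.add_mem _ h2 (Submodule.smul_mem _ (coeff n f) hgm)
          rwa [sub_add_cancel] at this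
        by_cases hnG : n ∈ G
        · refine hstep (L (Pi.single ⟨n, hnG⟩ 1)) (by rw [hcoeff, dif_pos hnG, Pi.single_eq_same]) (fun i hi => ?_)
            (Submodule.mem_sup_right ⟨_, rfl⟩)
          rw [hcoeff]
          split_ifs
          · exact Pi.single_eq_of_ne (fun h => by have := congrArg Subtype.val h; simp only at this; omega) _
          · rfl
        · obtain ⟨g, hg, hgo⟩ : ∃ g ∈ W, g.order = (n : ℕ∞) := by
            by_contra! hno
            exact hnG (mem_gaps.2 ⟨by omega, hno⟩)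
          obtain ⟨hg1, hg0⟩ := order_eq_nat.mp hgo
          refine hstep ((coeff n g)⁻¹ • g) (by rw [map_smul, smul_eq_mul, inv_mul_cancel₀ hg1])
            (fun i hi => by rw [map_smul, hg0 i hi, smul_zero])
            (Submodule.mem_sup_left ((W.restrictScalars k).smul_mem _ hg))
    intro x
    obtain ⟨f, rfl⟩ := Submodule.Quotient.mk_surjective _ x
    obtain ⟨w, hw, _, ⟨v, rfl⟩, he⟩ := Submodule.mem_sup.1 (key c f (by simp))
    refine ⟨v, ?_⟩
    show Submodule.Quotient.mk (L v) = _
    rw [Submodule.Quotient.eq, ← he]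
    simpa using neg_mem hw
  let e := LinearEquiv.ofBijective q ⟨hinj, hsurj⟩
  refine ⟨?_, Module.Finite.equiv e⟩
  rw [← e.finrank_eq, Module.finrank_pi, Fintype.card_coe]

/-- The embedding of power series into their fraction field. -/
noncomputable def toFrac (A : Subalgebra k (PowerSeries k)) : PowerSeries k →ₗ[↥A] FractionRing (PowerSeries k) :=
  (Algebra.linearMap (PowerSeries k) (FractionRing (PowerSeries k))).restrictScalars ↥A

theorem toFrac_injective : Function.Injective (toFrac A) := IsFractionRing.injective _ _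

theorem toFrac_mul (f g : PowerSeries k) : toFrac A (f * g) = toFrac A f * toFrac A g :=
  map_mul (algebraMap (PowerSeries k) (FractionRing (PowerSeries k))) f g

theorem toFrac_one : toFrac A (1 : PowerSeries k) = 1 := map_one (algebraMap (PowerSeries k) (FractionRing (PowerSeries k)))

/-- The length of the quotient by a submodule containing high orders. -/
theorem len_toFrac (h : CondMem A c) (W : Submodule ↥A (PowerSeries k))
    (hW : ∀ f : PowerSeries k, (c : ℕ∞) ≤ f.order → f ∈ W) :
    len ((⊤ : Submodule ↥A (PowerSeries k)).map (toFrac A)) (W.map (toFrac A)) = ((gaps W c).card : ℕ∞) := by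
  obtain ⟨hr, hfin⟩ := finrank_gaps W hW
  let e₀ : PowerSeries k ≃ₗ[↥A] ↥((⊤ : Submodule ↥A (PowerSeries k)).map (toFrac A)) :=
    Submodule.topEquiv.symm.trans (Submodule.equivMapOfInjective _ toFrac_injective _)
  have hmap : Submodule.map e₀.toLinearMap W = (W.map (toFrac A)).comap
      ((⊤ : Submodule ↥A (PowerSeries k)).map (toFrac A)).subtype := by
    ext ⟨y, hy⟩
    simp only [Submodule.mem_map, Submodule.mem_comap, Submodule.subtype_apply]
    constructor
    · rintro ⟨x, hx, he⟩
      exact ⟨x, hx, congrArg Subtype.val he⟩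
    · rintro ⟨x, hx, he⟩
      exact ⟨x, hx, Subtype.ext he⟩
  rw [len, (Submodule.Quotient.equiv _ _ e₀ hmap).length_eq.symm]
  let e₁ := Submodule.Quotient.restrictScalarsEquiv k W
  haveI : FiniteDimensional k (PowerSeries k ⧸ W) := Module.Finite.equiv e₁
  rw [length_eq_finrank (cond_residue h) _, ← e₁.finrank_eq, hr]

/-- The value set of the dual of a fractional ideal. -/
theorem dual_valueSet (hA : Module.Finite ↥A (PowerSeries k)) (hA' : CondMem A c)
    (hconductor : ∀ f : PowerSeries k, (∀ g, g * f ∈ A) ↔ (c : ℕ∞) ≤ f.order) (hc0 : c ≠ 0)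
    (ω : Submodule ↥A (PowerSeries k)) (hω1 : (1 : PowerSeries k) ∈ ω) (hωfg : ω.FG)
    (hωinj : CategoryTheory.HasInjectiveDimensionLT (ModuleCat.of ↥A ↥ω) 2)
    (M : Submodule ↥A (PowerSeries k)) (hMfg : M.FG) (hM1 : (1 : PowerSeries k) ∈ M) (n : ℕ) :
    (∃ u : PowerSeries k, u.order = n ∧ ∀ m ∈ M, u * m ∈ ω) ↔
      (c ≤ n ∨ ¬ ∃ m ∈ M, PowerSeries.order m = ((c - 1 - n : ℕ) : ℕ∞)) := by
  classical
  haveI : FaithfulSMul ↥A (PowerSeries k) :=
    (faithfulSMul_iff_algebraMap_injective _ _).2 fun a b h => Subtype.ext h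
  haveI : IsNoetherianRing ↥A := GaloisStage.isNoetherianRing_of_finite_extension ↥A (PowerSeries k)
  haveI := cond_local hA'
  obtain ⟨hd1, hnf⟩ := cond_dim hA'
  haveI := hd1
  haveI := cond_frac hA'
  have hAin : ∀ {W : Submodule ↥A (PowerSeries k)}, (1 : PowerSeries k) ∈ W → ∀ f ∈ A, f ∈ W := fun h1 f hf => by
    have := Submodule.smul_mem _ (⟨f, hf⟩ : ↥A) h1
    rwa [Algebra.smul_def, mul_one] at this
  -- the submodule of multipliers
  let U : Submodule ↥A (PowerSeries k) :=
    { carrier := {u | ∀ m ∈ M, u * m ∈ ω}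
      add_mem' := fun {a b} ha hb m hm => by rw [add_mul]; exact ω.add_mem (ha m hm) (hb m hm)
      zero_mem' := fun m _ => by rw [zero_mul]; exact ω.zero_mem
      smul_mem' := fun a u hu m hm => by rw [smul_mul_assoc]; exact ω.smul_mem a (hu m hm) }
  have hU : ∀ u, u ∈ U ↔ ∀ m ∈ M, u * m ∈ ω := fun u => Iff.rfl
  have hhighM : ∀ f : PowerSeries k, (c : ℕ∞) ≤ f.order → f ∈ M := fun f hf => hAin hM1 f (hA' f hf)
  have hhighω : ∀ f : PowerSeries k, (c : ℕ∞) ≤ f.order → f ∈ ω := fun f hf => hAin hω1 f (hA' f hf)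
  have hhighU : ∀ f : PowerSeries k, (c : ℕ∞) ≤ f.order → f ∈ U := fun f hf => (hU f).2 fun m _ =>
    hhighω _ (by rw [order_mul]; exact le_add_right hf)
  set ι := toFrac A with hι
  set R' := (⊤ : Submodule ↥A (PowerSeries k)).map ι
  set ω' := ω.map ι
  set M' := M.map ι
  set U' := U.map ι
  let Cc : Submodule ↥A (PowerSeries k) := (Ideal.span {(X : PowerSeries k) ^ c}).restrictScalars ↥A
  have hCc : ∀ f, f ∈ Cc ↔ (c : ℕ∞) ≤ f.order := fun f => by
    simp only [Cc, Submodule.restrictScalars_mem, Ideal.mem_span_singleton, X_pow_dvd_iff]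
    exact ⟨fun h => nat_le_order _ _ h, fun h m hm => coeff_of_lt_order m (lt_of_lt_of_le (by exact_mod_cast hm) h)⟩
  have hlat : ∀ W : Submodule ↥A (PowerSeries k), (1 : PowerSeries k) ∈ W → W.FG → IsLat (W.map ι) := fun W h1 hW =>
    ⟨fun h => by
      have : ι 1 ∈ (⊥ : Submodule ↥A (FractionRing (PowerSeries k))) := h ▸ Submodule.mem_map_of_mem h1
      rw [Submodule.mem_bot] at this
      exact one_ne_zero (toFrac_injective (this.trans (map_zero ι).symm)), hW.map _⟩
  have hωlat := hlat ω hω1 hωfg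
  have hω'inj : CategoryTheory.HasInjectiveDimensionLT (ModuleCat.of ↥A ↥ω') 2 := by
    haveI := hωinj
    exact CategoryTheory.hasInjectiveDimensionLT_of_iso (Submodule.equivMapOfInjective ι toFrac_injective ω).toModuleIso 2
  have h1ω : (1 : Submodule ↥A (FractionRing (PowerSeries k))) ≤ ω' := by
    intro x hx
    obtain ⟨a, rfl⟩ := Submodule.mem_one.1 hx
    exact ⟨(a : PowerSeries k), hAin hω1 _ a.2, rfl⟩
  let B : Subalgebra ↥A (FractionRing (PowerSeries k)) :=
    (IsScalarTower.toAlgHom ↥A (PowerSeries k) (FractionRing (PowerSeries k))).range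
  have hBR : Subalgebra.toSubmodule B = R' := by
    ext x
    simp only [Subalgebra.mem_toSubmodule, R', Submodule.mem_map, Submodule.mem_top, true_and]
    exact Iff.rfl
  have hωR : ω' ≤ R' := Submodule.map_mono le_top
  have hdivR : ω' / R' = Cc.map ι := by
    rw [← hBR, div_eq_conductor hnf hωlat hω'inj h1ω B (hBR ▸ hωR), hBR]
    ext x
    rw [Submodule.mem_div_iff_forall_mul_mem]
    constructor
    · intro hx
      obtain ⟨a, ha⟩ := Submodule.mem_one.1 ((mul_one x) ▸ hx 1 ⟨1, trivial, toFrac_one⟩)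
      refine ⟨a, (hCc _).2 ((hconductor _).1 fun g => ?_), ha⟩
      obtain ⟨b, hb⟩ := Submodule.mem_one.1 (hx (ι g) ⟨g, trivial, rfl⟩)
      have : g * (a : PowerSeries k) = (b : PowerSeries k) := toFrac_injective (A := A) (by
        refine Eq.trans ?_ hb.symm
        rw [← ha]
        exact (toFrac_mul _ _).trans (mul_comm _ _))
      exact this ▸ b.2
    · rintro ⟨f, hf, rfl⟩ _ ⟨g, -, rfl⟩
      refine Submodule.mem_one.2 ⟨⟨g * f, (hconductor f).2 ((hCc f).1 hf) g⟩, ?_⟩
      exact (toFrac_mul _ _).trans (mul_comm _ _)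
  have hdivM : ω' / M' = U' := by
    ext x
    rw [Submodule.mem_div_iff_forall_mul_mem]
    constructor
    · intro hx
      obtain ⟨u, hu, hxu⟩ := hx 1 ⟨1, hM1, toFrac_one⟩
      rw [mul_one] at hxu
      subst hxu
      refine ⟨u, (hU u).2 fun m hm => ?_, rfl⟩
      obtain ⟨w, hw, he⟩ := hx (ι m) ⟨m, hm, rfl⟩
      have : u * m = w := toFrac_injective (A := A) ((toFrac_mul _ _).trans he.symm)
      exact this ▸ hw
    · rintro ⟨u, hu, rfl⟩ _ ⟨m, hm, rfl⟩
      exact ⟨u * m, hu m hm, toFrac_mul _ _⟩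
  haveI : Module.Finite ↥A (PowerSeries k) := hA
  have key := len_div hnf hωlat hω'inj (hlat M hM1 hMfg) (Module.Finite.fg_top.map ι) (Submodule.map_mono le_top)
  rw [hdivR, hdivM, len_toFrac hA' M hhighM] at key
  have hCU : Cc.map ι ≤ U' := Submodule.map_mono fun f hf => hhighU f ((hCc f).1 hf)
  have e1 := len_trans hCU (Submodule.map_mono (le_top : U ≤ ⊤))
  rw [key, len_toFrac hA' U hhighU, len_toFrac hA' Cc fun f hf => (hCc f).2 hf] at e1
  have hCgap : (gaps Cc c).card = c := by
    have : gaps Cc c = Finset.range c := by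
      ext m
      rw [mem_gaps, Finset.mem_range]
      refine ⟨fun h => h.1, fun h => ⟨h, fun f hf he => ?_⟩⟩
      have := (hCc f).1 hf
      rw [he] at this
      have : c ≤ m := by exact_mod_cast this
      omega
    rw [this, Finset.card_range]
  rw [hCgap] at e1
  have hcount : c = (gaps M c).card + (gaps U c).card := by exact_mod_cast e1
  -- the dual value set
  let P : Finset ℕ := (Finset.range c).filter fun m => c - 1 - m ∈ gaps M c
  have hsub : (Finset.range c) \ gaps U c ⊆ P := by
    intro m hm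
    rw [Finset.mem_sdiff, Finset.mem_range, mem_gaps] at hm
    obtain ⟨u, hu, huo⟩ : ∃ u ∈ U, u.order = (m : ℕ∞) := by
      by_contra! hno
      exact hm.2 ⟨hm.1, hno⟩
    refine Finset.mem_filter.2 ⟨Finset.mem_range.2 hm.1, mem_gaps.2 ⟨by omega, fun g hg hgo => ?_⟩⟩
    -- an element of order c - 1 in the canonical ideal
    have hw : u * g ∈ ω := hu g hg
    have hwo : (u * g).order = ((c - 1 : ℕ) : ℕ∞) := by
      rw [order_mul, huo, hgo]
      exact_mod_cast (show m + (c - 1 - m) = c - 1 by omega)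
    obtain ⟨h1, h0⟩ := order_eq_nat.1 hwo
    have hall : ∀ f : PowerSeries k, X ^ (c - 1) * f ∈ ω := by
      intro f
      set r := coeff (c - 1) (X ^ (c - 1) * f) / coeff (c - 1) (u * g) with hr
      have h2 : X ^ (c - 1) * f - algebraMap k (PowerSeries k) r * (u * g) ∈ ω := hhighω _ (nat_le_order _ _ fun i hi => by
        rw [map_sub, ← Algebra.smul_def, map_smul, smul_eq_mul]
        rcases lt_or_eq_of_le (show i ≤ c - 1 by omega) with hlt | rfl
        · rw [h0 i hlt, coeff_X_pow_mul', if_neg (by omega)]; ring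
        · rw [hr, div_mul_cancel₀ _ h1, sub_self])
      have h3 := ω.add_mem h2 (ω.smul_mem (algebraMap k ↥A r) hw)
      rw [Algebra.smul_def] at h3
      change X ^ (c - 1) * f - algebraMap k (PowerSeries k) r * (u * g) + algebraMap k (PowerSeries k) r * (u * g) ∈ ω at h3
      rwa [sub_add_cancel] at h3
    have hX : ι (X ^ (c - 1)) ∈ ω' / R' := by
      rw [Submodule.mem_div_iff_forall_mul_mem]
      rintro _ ⟨f, -, rfl⟩
      exact ⟨X ^ (c - 1) * f, hall f, toFrac_mul _ _⟩
    rw [hdivR] at hX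
    obtain ⟨f, hf, he⟩ := hX
    have := (hCc _).1 (toFrac_injective he ▸ hf)
    rw [order_X_pow] at this
    have : c ≤ c - 1 := by exact_mod_cast this
    omega
  have hPcard : P.card = (gaps M c).card := by
    refine Finset.card_bij' (fun m _ => c - 1 - m) (fun m _ => c - 1 - m) (fun m hm => (Finset.mem_filter.1 hm).2)
      (fun m hm => Finset.mem_filter.2 ⟨Finset.mem_range.2 (by omega), ?_⟩) (fun m hm => ?_) (fun m hm => ?_)
    · rw [show c - 1 - (c - 1 - m) = m by have := (mem_gaps.1 hm).1; omega]; exact hm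
    · have := Finset.mem_range.1 (Finset.mem_filter.1 hm).1; omega
    · have := (mem_gaps.1 hm).1; omega
  have heq : (Finset.range c) \ gaps U c = P := by
    refine Finset.eq_of_subset_of_card_le hsub ?_
    rw [Finset.card_sdiff_of_subset (fun m hm => Finset.mem_range.2 (mem_gaps.1 hm).1), Finset.card_range, hPcard]
    omega
  constructor
  · rintro ⟨u, huo, hu⟩
    by_cases hn : c ≤ n
    · exact Or.inl hn
    have h1 : n ∈ (Finset.range c) \ gaps U c := by
      rw [Finset.mem_sdiff, Finset.mem_range, mem_gaps]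
      exact ⟨by omega, fun h => h.2 u hu huo⟩
    rw [heq] at h1
    exact Or.inr fun ⟨m, hm, hmo⟩ => (mem_gaps.1 (Finset.mem_filter.1 h1).2).2 m hm hmo
  · intro h
    by_cases hn : c ≤ n
    · exact ⟨X ^ n, order_X_pow n, hhighU _ (by rw [order_X_pow]; exact_mod_cast hn)⟩
    have h1 : n ∈ P := Finset.mem_filter.2 ⟨Finset.mem_range.2 (by omega), mem_gaps.2 ⟨by omega, fun g hg hgo =>
      (h.resolve_left hn) ⟨g, hg, hgo⟩⟩⟩
    rw [← heq, Finset.mem_sdiff, mem_gaps] at h1
    by_contra hno
    exact h1.2 ⟨by omega, fun u hu huo => hno ⟨u, huo, hu⟩⟩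

end Groth.Agent.TFExt
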