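import Groth.Agent.TFExt.CurveVal

/-!
# Normal forms of rank one modules over monomial curve rings
-/

set_option autoImplicit false

universe u

open PowerSeries

namespace Groth.Agent.TFExt

variable {k : Type u} [Field k] {A : Subalgebra k (PowerSeries k)}

theorem exists_embedding (M : Type u) [AddCommGroup M] [Module ↥A M] [Module.Finite ↥A M] [Module.IsTorsionFree ↥A M]
    (hrk : Module.finrank (FractionRing ↥A) (TensorProduct ↥A (FractionRing ↥A) M) = 1) :
    ∃ ι : M →ₗ[↥A] PowerSeries k, Function.Injective ι ∧ Nontrivial M := by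
  classical
  haveI : IsLocalizedModule (nonZeroDivisors ↥A) (TensorProduct.mk ↥A (FractionRing ↥A) M 1) :=
    (isLocalizedModule_iff_isBaseChange (nonZeroDivisors ↥A) (FractionRing ↥A) _).2 (TensorProduct.isBaseChange ↥A M _)
  haveI : Nontrivial M := by
    by_contra hnt
    rw [not_nontrivial_iff_subsingleton] at hnt
    haveI := hnt
    rw [Module.finrank_zero_of_subsingleton] at hrk
    exact zero_ne_one hrk
  obtain ⟨m₀, hm₀⟩ := exists_ne (0 : M)
  have hdep : ∀ m : M, ∃ a b : ↥A, a ≠ 0 ∧ a • m = b • m₀ := by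
    intro m
    by_contra! hno
    have hli : LinearIndependent ↥A ![m₀, m] := by
      rw [LinearIndependent.pair_iff]
      intro s t hst
      have ht : t = 0 := by
        by_contra ht
        exact hno t (-s) ht (by rw [neg_smul]; exact eq_neg_of_add_eq_zero_right hst)
      rw [ht, zero_smul, add_zero] at hst
      exact ⟨(smul_eq_zero.1 hst).resolve_right hm₀, ht⟩
    have h2 := hli.of_isLocalizedModule (Rₛ := FractionRing ↥A) (S := nonZeroDivisors ↥A)
      (f := TensorProduct.mk ↥A (FractionRing ↥A) M 1)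
    have h3 := h2.fintype_card_le_finrank
    rw [hrk, Fintype.card_fin] at h3
    omega
  obtain ⟨S, hS⟩ := (inferInstance : Module.Finite ↥A M).fg_top
  choose a b ha hab using hdep
  let c : ↥A := ∏ m ∈ S, a m
  have hc0 : c ≠ 0 := Finset.prod_ne_zero_iff.2 fun m _ => ha m
  have hc : ∀ m : M, ∃ b' : ↥A, c • m = b' • m₀ := by
    intro m
    have hm : m ∈ Submodule.span ↥A (S : Set M) := hS ▸ Submodule.mem_top
    induction hm using Submodule.span_induction with
    | mem y hy =>
      obtain ⟨d, hd⟩ : a y ∣ c := Finset.dvd_prod_of_mem _ hy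
      exact ⟨d * b y, by rw [hd, mul_comm (a y), mul_smul, hab, smul_smul]⟩
    | zero => exact ⟨0, by simp⟩
    | add y z _ _ hy hz =>
      obtain ⟨p, hp⟩ := hy
      obtain ⟨q, hq⟩ := hz
      exact ⟨p + q, by rw [smul_add, hp, hq, add_smul]⟩
    | smul r y _ hy =>
      obtain ⟨p, hp⟩ := hy
      exact ⟨r * p, by rw [smul_comm, hp, smul_smul]⟩
  choose β hβ using hc
  have huniq : ∀ p q : ↥A, p • m₀ = q • m₀ → p = q := fun p q h => smul_left_injective ↥A hm₀ h
  let ι : M →ₗ[↥A] PowerSeries k :=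
    { toFun := fun m => (β m : PowerSeries k)
      map_add' := fun x y => congrArg Subtype.val (huniq (β (x + y)) (β x + β y) (by rw [← hβ, smul_add, hβ, hβ, add_smul]))
      map_smul' := fun r x => by
        rw [RingHom.id_apply, Algebra.smul_def]
        exact congrArg Subtype.val (huniq (β (r • x)) (r * β x) (by rw [← hβ, smul_comm, hβ, smul_smul])) }
  refine ⟨ι, fun x y h => ?_, inferInstance⟩
  have : β x = β y := Subtype.ext h
  exact smul_right_injective M hc0 (show c • x = c • y by rw [hβ, hβ, this])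

theorem mem_of_gaps {c d : ℕ} {W : Submodule ↥A (PowerSeries k)} (hW : ∀ f : PowerSeries k, (c : ℕ∞) ≤ f.order → f ∈ W)
    (hd : ∀ n, d ≤ n → n < c → ∃ g ∈ W, g.order = (n : ℕ∞)) (f : PowerSeries k) (hf : (d : ℕ∞) ≤ f.order) : f ∈ W := by
  obtain ⟨j, hj⟩ : ∃ j, j = c - d := ⟨_, rfl⟩
  induction j generalizing d f with
  | zero => exact hW f (le_trans (by exact_mod_cast (by omega : c ≤ d)) hf)
  | succ j ih =>
    obtain ⟨g, hg, hgo⟩ := hd d le_rfl (by omega)
    obtain ⟨hg1, hg0⟩ := order_eq_nat.mp hgo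
    set r := coeff d f / coeff d g with hr
    have h := ih (d := d + 1) (fun n hn hnc => hd n (by omega) hnc) (f - r • g) (nat_le_order _ _ fun i hi => by
      rw [map_sub, map_smul, smul_eq_mul]
      rcases lt_or_eq_of_le (show i ≤ d by omega) with hlt | rfl
      · rw [hg0 i hlt, coeff_of_lt_order i (lt_of_lt_of_le (by exact_mod_cast hlt) hf)]; ring
      · rw [hr, div_mul_cancel₀ _ hg1, sub_self]) (by omega)
    have := W.add_mem h ((W.restrictScalars k).smul_mem r hg)
    rwa [sub_add_cancel] at this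

/-- The normal form of rank one modules. -/
theorem normal_form (Γ : Set ℕ) (hΓ : ∀ n : ℕ, n ∈ Γ ↔ ∃ f ∈ A, PowerSeries.order f = n) (c : ℕ)
    (hc : ∀ n, c ≤ n → n ∈ Γ) (hcond : CondMem A c)
    (M : Type u) [AddCommGroup M] [Module ↥A M] [Module.Finite ↥A M] [Module.IsTorsionFree ↥A M]
    (hrk : Module.finrank (FractionRing ↥A) (TensorProduct ↥A (FractionRing ↥A) M) = 1) :
    ∃ M' : Submodule ↥A (PowerSeries k), (Ideal.span {(X : PowerSeries k) ^ (2 * Γᶜ.ncard)}).restrictScalars ↥A ≤ M' ∧
      Nonempty (M ≃ₗ[↥A] ↥M') ∧ Module.finrank k (PowerSeries k ⧸ M'.restrictScalars k) = Γᶜ.ncard := by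
  classical
  obtain ⟨ι, hι, hnt⟩ := exists_embedding M hrk
  obtain ⟨m, hm⟩ := exists_ne (0 : M)
  have hex : ∃ n : ℕ, ∃ x : M, (ι x).order = (n : ℕ∞) := by
    have : ι m ≠ 0 := fun h => hm (hι (h.trans (map_zero ι).symm))
    obtain ⟨o, ho⟩ := ENat.ne_top_iff_exists.mp (fun htop => this (order_eq_top.mp htop))
    exact ⟨o, m, ho.symm⟩
  set o := Nat.find hex
  obtain ⟨x₀, hx₀⟩ := Nat.find_spec hex
  have hdvd : ∀ x : M, ∃ g, ι x = ι x₀ * g := by
    intro x
    obtain ⟨w, hw⟩ : ∃ w, ι x₀ = X ^ o * w := X_pow_dvd_iff.2 fun i hi => coeff_of_lt_order i (by rw [hx₀]; exact_mod_cast hi)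
    have hw0 : constantCoeff w ≠ 0 := fun h0 => (order_eq_nat.1 hx₀).1 (by
      rw [hw, coeff_X_pow_mul', if_pos le_rfl, Nat.sub_self, coeff_zero_eq_constantCoeff_apply, h0])
    obtain ⟨v, hv⟩ : IsUnit w := isUnit_iff_constantCoeff.2 (isUnit_iff_ne_zero.2 hw0)
    obtain ⟨w', hw'⟩ : ∃ w', ι x = X ^ o * w' := X_pow_dvd_iff.2 fun i hi => by
      by_contra hne
      obtain ⟨j, hj⟩ := ENat.ne_top_iff_exists.mp (fun htop => hne (by rw [show ι x = 0 from order_eq_top.mp htop, map_zero]) : (ι x).order ≠ ⊤)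
      have hji : (j : ℕ∞) ≤ i := hj ▸ order_le i hne
      exact Nat.find_min hex (show j < o by have : j ≤ i := by exact_mod_cast hji
                                            omega) ⟨x, hj.symm⟩
    refine ⟨((v⁻¹ : (PowerSeries k)ˣ) : PowerSeries k) * w', ?_⟩
    rw [hw, hw', ← hv]
    linear_combination -(X ^ o * w') * v.mul_inv
  choose g hg using hdvd
  have hne₀ : ι x₀ ≠ 0 := fun h => by rw [h, order_zero] at hx₀; exact ENat.top_ne_coe _ hx₀
  let φ : M →ₗ[↥A] PowerSeries k :=
    { toFun := g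
      map_add' := fun x y => mul_left_cancel₀ hne₀ (by rw [← hg, map_add, mul_add, ← hg, ← hg])
      map_smul' := fun r x => mul_left_cancel₀ hne₀ (by rw [RingHom.id_apply, ← hg, map_smul, mul_smul_comm, ← hg]) }
  have hφ : Function.Injective φ := fun x y h => hι (by rw [hg x, hg y]; exact congrArg (ι x₀ * ·) h)
  have hφ1 : φ x₀ = 1 := mul_left_cancel₀ hne₀ (by rw [mul_one]; exact (hg x₀).symm)
  set W := LinearMap.range φ with hWdef
  have h1W : (1 : PowerSeries k) ∈ W := ⟨x₀, hφ1⟩
  have hAW : ∀ f ∈ A, f ∈ W := fun f hf => by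
    have := W.smul_mem (⟨f, hf⟩ : ↥A) h1W
    rwa [Algebra.smul_def, mul_one] at this
  have hW : ∀ f : PowerSeries k, (c : ℕ∞) ≤ f.order → f ∈ W := fun f hf => hAW f (hcond f hf)
  set G := gaps W c
  -- the conductor of the module
  have hexd : ∃ d, ∀ n, d ≤ n → n ∉ G := ⟨c, fun n hn h => by have := (mem_gaps.1 h).1; omega⟩
  set d := Nat.find hexd
  have hd : ∀ n, d ≤ n → n ∉ G := Nat.find_spec hexd
  have hdc : d ≤ c := Nat.find_le fun n hn h => by have := (mem_gaps.1 h).1; omega
  have horder : ∀ n, n < c → n ∉ G → ∃ f ∈ W, f.order = (n : ℕ∞) := fun n hn hnG => by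
    by_contra! hno
    exact hnG (mem_gaps.2 ⟨hn, hno⟩)
  have hhigh : ∀ f : PowerSeries k, (d : ℕ∞) ≤ f.order → f ∈ W :=
    mem_of_gaps hW fun n hn hnc => horder n hnc (hd n hn)
  -- counting
  set δ := Γᶜ.ncard
  have hΓc : Γᶜ.Finite := (Set.finite_Iio c).subset fun n hn => not_le.mp fun h => hn (hc n h)
  have hGδ : G.card ≤ δ := by
    rw [← Set.ncard_coe_finset]
    refine Set.ncard_le_ncard (fun n hn => fun hnΓ => ?_) hΓc
    obtain ⟨f, hf, hfo⟩ := (hΓ n).1 hnΓ
    exact (mem_gaps.1 hn).2 f (hAW f hf) hfo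
  have hdG : d ≤ δ + G.card := by
    have h1 : ((Finset.range d) \ G).card ≤ δ := by
      rw [← Finset.card_image_of_injOn (f := fun n => d - 1 - n) (fun x hx y hy h => by
        simp only [Finset.coe_sdiff, Set.mem_sdiff, Finset.coe_range, Set.mem_Iio] at hx hy; simp only at h; omega),
        ← Set.ncard_coe_finset]
      refine Set.ncard_le_ncard (fun q hq hqΓ => ?_) hΓc
      simp only [Finset.coe_image, Set.mem_image, Finset.mem_coe, Finset.mem_sdiff, Finset.mem_range] at hq
      obtain ⟨n, ⟨hn, hnG⟩, rfl⟩ := hq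
      obtain ⟨f, hf, hfo⟩ := horder n (by omega) hnG
      obtain ⟨a, ha, hao⟩ := (hΓ _).1 hqΓ
      have hmem : a * f ∈ W := by
        have := W.smul_mem (⟨a, ha⟩ : ↥A) hf
        rwa [Algebra.smul_def] at this
      have hord : (a * f).order = ((d - 1 : ℕ) : ℕ∞) := by
        rw [order_mul, hao, hfo]
        exact_mod_cast (show d - 1 - n + n = d - 1 by omega)
      refine Nat.find_min hexd (show d - 1 < d by omega) fun q hq h => ?_
      rcases Nat.eq_or_lt_of_le hq with he | hlt
      · exact (mem_gaps.1 h).2 _ hmem (he ▸ hord)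
      · exact hd q (by omega) h
    have h2 : d ≤ ((Finset.range d) \ G).card + G.card := by
      refine le_trans ?_ (Finset.card_union_le _ _)
      refine le_trans (le_of_eq (Finset.card_range d).symm) (Finset.card_le_card fun x hx => ?_)
      rw [Finset.mem_union, Finset.mem_sdiff]
      tauto
    omega
  -- the shifted module
  set s := δ - G.card with hs
  let μ : PowerSeries k →ₗ[↥A] PowerSeries k := LinearMap.mulLeft ↥A (X ^ s)
  have hμ : Function.Injective μ := fun x y h => mul_left_cancel₀ (pow_ne_zero s X_ne_zero) h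
  refine ⟨W.map μ, fun f hf => ?_, ⟨(LinearEquiv.ofInjective φ hφ).trans (Submodule.equivMapOfInjective μ hμ W)⟩, ?_⟩
  · rw [Submodule.restrictScalars_mem, Ideal.mem_span_singleton'] at hf
    obtain ⟨q, rfl⟩ := hf
    refine ⟨X ^ (2 * δ - s) * q, hhigh _ ?_, ?_⟩
    · rw [order_mul, order_X_pow]
      exact le_trans (by exact_mod_cast (show d ≤ 2 * δ - s by omega)) le_self_add
    · show X ^ s * (X ^ (2 * δ - s) * q) = _
      rw [← mul_assoc, ← pow_add, show s + (2 * δ - s) = 2 * δ by omega, mul_comm]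
  · rw [(finrank_gaps (c := c + s) (W.map μ) (fun f hf => ?_)).1]
    · have : gaps (W.map μ) (c + s) = Finset.range s ∪ G.image (s + ·) := by
        ext n
        simp only [mem_gaps, Finset.mem_union, Finset.mem_range, Finset.mem_image, G]
        constructor
        · rintro ⟨hn, hno⟩
          by_cases hns : n < s
          · exact Or.inl hns
          refine Or.inr ⟨n - s, ⟨by omega, fun f hf hfo => hno (X ^ s * f) ⟨f, hf, rfl⟩ ?_⟩, by omega⟩
          rw [order_mul, order_X_pow, hfo]
          exact_mod_cast (show s + (n - s) = n by omega)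
        · rintro (hn | ⟨q, ⟨hq, hqno⟩, rfl⟩)
          · refine ⟨by omega, ?_⟩
            rintro _ ⟨f, -, rfl⟩ hfo
            rw [LinearMap.mulLeft_apply, order_mul, order_X_pow] at hfo
            have h3 : (s : ℕ∞) ≤ (n : ℕ∞) := hfo ▸ le_self_add
            have : s ≤ n := by exact_mod_cast h3
            omega
          · refine ⟨by omega, ?_⟩
            rintro _ ⟨f, hf, rfl⟩ hfo
            rw [LinearMap.mulLeft_apply, order_mul, order_X_pow, Nat.cast_add] at hfo
            exact hqno f hf (WithTop.add_left_cancel (ENat.coe_ne_top s) hfo)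
      rw [this, Finset.card_union_of_disjoint, Finset.card_range, Finset.card_image_of_injective _ (add_right_injective s)]
      · omega
      · rw [Finset.disjoint_left]
        intro a ha hb
        simp only [Finset.mem_range, Finset.mem_image] at ha hb
        obtain ⟨q, -, rfl⟩ := hb
        omega
    · obtain ⟨q, hq⟩ : ∃ q, f = X ^ s * q := X_pow_dvd_iff.2 fun i hi =>
        coeff_of_lt_order i (lt_of_lt_of_le (by exact_mod_cast (show i < c + s by omega)) hf)
      refine ⟨q, hW q ?_, hq.symm⟩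
      rw [hq, order_mul, order_X_pow, Nat.cast_add, add_comm] at hf
      exact WithTop.le_of_add_le_add_left (ENat.coe_ne_top s) hf

end Groth.Agent.TFExt
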