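import Groth.Agent.TFExt.Two

/-!
# Modules generated by consecutive powers
-/

set_option autoImplicit false

universe u

open PowerSeries CategoryTheory CategoryTheory.Abelian

namespace Groth.Agent.TFExt

variable {k : Type u} [Field k] {A : Subalgebra k (PowerSeries k)}

/-- A vector extended by zero to all indices. -/
def extZ {r : ℕ} (α : Fin r → PowerSeries k) (m : ℕ) : PowerSeries k := if h : m < r then α ⟨m, h⟩ else 0

theorem extZ_fin {r : ℕ} (α : Fin r → PowerSeries k) (s : Fin r) : extZ α (s : ℕ) = α s := by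
  simp [extZ, s.2]

/-- The relations among consecutive powers. -/
noncomputable def consU (r : ℕ) (s : Fin r) (j : Fin (r + 1)) : PowerSeries k :=
  (if (j : ℕ) = (s : ℕ) then X else 0) - if (j : ℕ) = (s : ℕ) + 1 then 1 else 0

theorem sum_consU {r : ℕ} (α : Fin r → PowerSeries k) (j : Fin (r + 1)) :
    ∑ s, α s * consU r s j = X * extZ α j - if (j : ℕ) = 0 then 0 else extZ α ((j : ℕ) - 1) := by
  simp only [consU, mul_sub, Finset.sum_sub_distrib, mul_ite, mul_zero, mul_one]
  congr 1
  · by_cases h : (j : ℕ) < r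
    · rw [Finset.sum_eq_single (⟨j, h⟩ : Fin r) (fun s _ hs => if_neg fun e => hs (Fin.ext e.symm))
        (fun h' => absurd (Finset.mem_univ _) h'), if_pos rfl, extZ, dif_pos h, mul_comm]
    · rw [extZ, dif_neg h, mul_zero]
      exact Finset.sum_eq_zero fun s _ => if_neg (by omega)
  · by_cases h : (j : ℕ) = 0
    · rw [if_pos h]
      exact Finset.sum_eq_zero fun s _ => if_neg (by omega)
    · rw [if_neg h, Finset.sum_eq_single (⟨(j : ℕ) - 1, by omega⟩ : Fin r)
        (fun s _ hs => if_neg fun e => hs (Fin.ext (by simp only; omega))) (fun h' => absurd (Finset.mem_univ _) h'),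
        if_pos (by simp only; omega), extZ, dif_pos (by omega)]

theorem sum_consU_mul {r : ℕ} (n : Fin (r + 1) → PowerSeries k) (s : Fin r) :
    ∑ j, consU r s j * n j = X * n s.castSucc - n s.succ := by
  simp only [consU, sub_mul, Finset.sum_sub_distrib, ite_mul, zero_mul, one_mul]
  congr 1
  · refine (Finset.sum_eq_single s.castSucc (fun j _ hj => if_neg fun e => hj (Fin.ext ?_))
      (fun h => absurd (Finset.mem_univ _) h)).trans (if_pos (Fin.val_castSucc s))
    rw [Fin.val_castSucc]; exact e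
  · refine (Finset.sum_eq_single s.succ (fun j _ hj => if_neg fun e => hj (Fin.ext ?_))
      (fun h => absurd (Finset.mem_univ _) h)).trans (if_pos (Fin.val_succ s))
    rw [Fin.val_succ]; exact e

theorem tau_mem {Γ : Set ℕ} (hA : ∀ f : PowerSeries k, f ∈ A ↔ Supp Γ f) {c : ℕ} (hc : ∀ m, c ≤ m → m ∈ Γ)
    (f : PowerSeries k) : X ^ c * f ∈ A :=
  (hA _).2 ((supp_X_pow_mul c).2 fun _ _ => hc _ (Nat.le_add_right c _))

/-- The first Ext group from a module generated by consecutive powers. -/
theorem ext_cons {Γ : Set ℕ} (hA : ∀ f : PowerSeries k, f ∈ A ↔ Supp Γ f) {c : ℕ} (hc : ∀ m, c ≤ m → m ∈ Γ)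
    (r : ℕ) (N : Submodule ↥A (PowerSeries k)) :
    Nonempty (Abelian.Ext (ModuleCat.of ↥A ↥(Submodule.span ↥A ((fun a : ℕ => (X : PowerSeries k) ^ a) '' Set.Iic r)))
      (ModuleCat.of ↥A ↥N) 1 ≃ₗ[↥A]
        ↥(homVals A (consU r) (X ^ c) N) ⧸
          (genVals A (consU r) (X ^ c) N).comap (homVals A (consU r) (X ^ c) N).subtype) := by
  have hr : (fun a : ℕ => (X : PowerSeries k) ^ a) '' Set.Iic r = Set.range fun j : Fin (r + 1) => X ^ (j : ℕ) := by
    ext f
    constructor
    · rintro ⟨a, ha, rfl⟩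
      exact ⟨⟨a, Nat.lt_succ_of_le ha⟩, rfl⟩
    · rintro ⟨j, rfl⟩
      exact ⟨j, Nat.le_of_lt_succ j.2, rfl⟩
  rw [hr]
  refine ext_one_equiv N _ (consU r) (X ^ c) (fun x hx => (mul_eq_zero.1 hx).resolve_left (pow_ne_zero _ X_ne_zero))
    (tau_mem hA hc) (fun s => ?_) (fun α h => ?_) (fun h hh => ?_)
  · rw [sum_consU_mul, Fin.val_castSucc, Fin.val_succ, pow_succ']
    exact sub_self _
  · have hz : ∀ m, extZ α m = 0 := by
      intro m
      induction m with
      | zero =>
        have h0 := h 0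
        rw [sum_consU, Fin.val_zero, if_pos rfl, sub_zero] at h0
        exact (mul_eq_zero.1 h0).resolve_left X_ne_zero
      | succ m ih =>
        by_cases hm : m + 1 < r
        · have h0 := h ⟨m + 1, by omega⟩
          rw [sum_consU, if_neg (Nat.succ_ne_zero m), Nat.add_sub_cancel, ih, sub_zero] at h0
          exact (mul_eq_zero.1 h0).resolve_left X_ne_zero
        · rw [extZ, dif_neg hm]
    exact funext fun s => (extZ_fin α s).symm.trans (hz s)
  · let H : ℕ → PowerSeries k := fun m => if h' : m < r + 1 then h ⟨m, h'⟩ else 0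
    have hH : ∀ m, r < m → H m = 0 := fun m hm => dif_neg (by omega)
    let a : ℕ → PowerSeries k := fun s => -∑ l ∈ Finset.range r, H (s + 1 + l) * X ^ l
    refine ⟨fun s => a s, fun j => ?_⟩
    have ha : ∀ s, a s * X = a s * X := fun _ => rfl
    have hext : ∀ m, extZ (fun s : Fin r => a s) m = a m := fun m => by
      by_cases hm : m < r
      · rw [extZ, dif_pos hm]
      · rw [extZ, dif_neg hm]
        exact (neg_eq_zero.2 (Finset.sum_eq_zero fun l _ => by rw [hH _ (by omega), zero_mul])).symm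
    have hrec : ∀ s, X * a (s + 1) - a s = H (s + 1) := fun s => by
      have e : ∑ l ∈ Finset.range r, H (s + 1 + l) * X ^ l = ∑ l ∈ Finset.range (r + 1), H (s + 1 + l) * X ^ l := by
        rw [Finset.sum_range_succ, hH (s + 1 + r) (by omega), zero_mul, add_zero]
      simp only [a]
      rw [e, Finset.sum_range_succ', add_zero, pow_zero, mul_one]
      simp only [mul_neg, Finset.mul_sum, neg_add_rev, neg_neg, sub_neg_eq_add]
      have e2 : ∑ l ∈ Finset.range r, X * (H (s + 1 + 1 + l) * X ^ l) =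
          ∑ l ∈ Finset.range r, H (s + 1 + (l + 1)) * X ^ (l + 1) := Finset.sum_congr rfl fun l _ => by
        rw [show s + 1 + 1 + l = s + 1 + (l + 1) by omega]; ring
      rw [e2]; ring
    rw [sum_consU, hext]
    by_cases hj : (j : ℕ) = 0
    · rw [if_pos hj, sub_zero, hj]
      have e : ∑ i, h i * X ^ (i : ℕ) = ∑ l ∈ Finset.range (r + 1), H l * X ^ l := by
        rw [Finset.sum_range]
        exact Finset.sum_congr rfl fun i _ => by simp [H, i.2, Nat.le_of_lt_succ i.2]
      rw [e, Finset.sum_range_succ', pow_zero, mul_one] at hh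
      have e0 : H 0 = h j := by simp [H]; exact congrArg h (Fin.ext hj.symm)
      rw [← e0]
      have e2 : ∑ l ∈ Finset.range r, X * (H (0 + 1 + l) * X ^ l) =
          ∑ l ∈ Finset.range r, H (l + 1) * X ^ (l + 1) := Finset.sum_congr rfl fun l _ => by
        rw [show 0 + 1 + l = l + 1 by omega]; ring
      simp only [a, mul_neg, Finset.mul_sum, e2]
      linear_combination -hh
    · rw [if_neg hj, hext]
      obtain ⟨q, hq⟩ : ∃ q, (j : ℕ) = q + 1 := ⟨(j : ℕ) - 1, by omega⟩
      rw [hq, Nat.add_sub_cancel, hrec]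
      show dite _ _ _ = h j
      rw [dif_pos (show q + 1 < r + 1 from hq ▸ j.2)]
      exact congrArg h (Fin.ext hq.symm)

theorem coeff_of_dvd {c m : ℕ} {f : PowerSeries k} (h : X ^ c ∣ f) (hm : m < c) : coeff m f = 0 :=
  X_pow_dvd_iff.1 h m hm

theorem dvd_of_supp {c : ℕ} {S : Set ℕ} {f : PowerSeries k} (h : Supp S f) (hS : ∀ m ∈ S, c ≤ m) : X ^ c ∣ f :=
  X_pow_dvd_iff.2 fun m hm => by
    by_contra hne
    exact absurd (hS m (h m hne)) (by omega)

section Cubical

variable {n : ℕ}

theorem mem_N_cubical {S : Set ℕ} {N : Submodule ↥A (PowerSeries k)} (hN : ∀ f, f ∈ N ↔ Supp S f)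
    {f : PowerSeries k} (hS : ∀ m, n ≤ m → m ∈ S) (h : X ^ n ∣ f) : f ∈ N :=
  (hN f).2 fun m hm => hS m (by
    by_contra hlt
    exact hm (coeff_of_dvd h (by omega)))

/-- The coefficient vectors of relations with coefficients in the cubical ring are divisible. -/
theorem rels_dvd (hA : ∀ f : PowerSeries k, f ∈ A ↔ Supp {m | m = 0 ∨ n ≤ m} f) {r : ℕ} (hr : r + 1 ≤ n)
    (α : Fin r → PowerSeries k) (h : ∀ j, ∑ s, α s * consU r s j ∈ A) (s : Fin r) : X ^ n ∣ α s := by
  have hz : ∀ q m : ℕ, q < r → 1 ≤ m → m < n → coeff m (X * extZ α q - if q = 0 then 0 else extZ α (q - 1)) = 0 := by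
    intro q m hq h1 h2
    by_contra hne
    have := (hA _).1 (h ⟨q, by omega⟩)
    rw [sum_consU] at this
    rcases this m hne with h0 | h0 <;> omega
  have hlast : ∀ m : ℕ, 1 ≤ m → m < n → coeff m (extZ α (r - 1)) = 0 := by
    intro m h1 h2
    by_cases hr0 : r = 0
    · simp [extZ, hr0]
    by_contra hne
    have := (hA _).1 (h ⟨r, by omega⟩)
    rw [sum_consU, if_neg (show ((⟨r, by omega⟩ : Fin (r + 1)) : ℕ) ≠ 0 from hr0),
      show extZ α ((⟨r, by omega⟩ : Fin (r + 1)) : ℕ) = 0 by simp [extZ], mul_zero, zero_sub] at this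
    rcases this m (by simpa using hne) with h0 | h0 <;> omega
  have hrec : ∀ q m : ℕ, q + 1 < r → m + 1 < n → coeff (m + 1) (extZ α q) = coeff m (extZ α (q + 1)) := by
    intro q m hq hm
    have := hz (q + 1) (m + 1) hq (by omega) hm
    rw [if_neg (Nat.succ_ne_zero q), Nat.add_sub_cancel, map_sub, coeff_succ_X_mul, sub_eq_zero] at this
    exact this.symm
  have hfirst : ∀ m : ℕ, 0 < r → m + 1 < n → coeff m (extZ α 0) = 0 := by
    intro m h0 hm
    have := hz 0 (m + 1) h0 (by omega) hm
    rwa [if_pos rfl, sub_zero, coeff_succ_X_mul] at this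
  have hchain : ∀ l q m : ℕ, q + l + 1 = r → m + l < n → coeff (m + l) (extZ α q) = coeff m (extZ α (r - 1)) := by
    intro l
    induction l with
    | zero => intro q m hq _; rw [show r - 1 = q by omega, add_zero]
    | succ l ih =>
      intro q m hq hm
      rw [show m + (l + 1) = (m + l) + 1 by omega, hrec q (m + l) (by omega) (by omega)]
      exact ih (q + 1) m (by omega) (by omega)
  have hall : ∀ m : ℕ, m < n → coeff m (extZ α (r - 1)) = 0 := by
    intro m hm
    rcases Nat.eq_zero_or_pos m with rfl | hpos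
    · have hr0 : 0 < r := by have := s.2; omega
      rw [← hchain (r - 1) 0 0 (by omega) (by omega)]
      exact hfirst _ hr0 (by omega)
    · exact hlast m hpos hm
  have hdown : ∀ q m : ℕ, q < r → m < n → coeff m (extZ α q) = 0 := by
    intro q
    induction q with
    | zero =>
      intro m hq hm
      by_cases h1 : m + 1 < n
      · exact hfirst m hq h1
      · rw [show m = (m - (r - 1)) + (r - 1) by omega, hchain (r - 1) 0 _ (by omega) (by omega)]
        exact hall _ (by omega)
    | succ q ih =>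
      intro m hq hm
      by_cases h1 : m + 1 < n
      · rw [← hrec q m hq h1]
        exact ih _ (by omega) h1
      · rw [show m = (m - (r - 2 - q)) + (r - 2 - q) by omega, hchain _ (q + 1) _ (by omega) (by omega)]
        exact hall _ (by omega)
  exact X_pow_dvd_iff.2 fun m hm => extZ_fin α s ▸ hdown s m s.2 hm

theorem pairs_single {r : ℕ} (y : Fin r → PowerSeries k) (s : Fin r) (f : PowerSeries k) :
    ∑ l, (Pi.single s f : Fin r → PowerSeries k) l * y l = f * y s := by
  rw [Finset.sum_eq_single s (fun l _ hl => by rw [Pi.single_eq_of_ne hl, zero_mul])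
    (fun h => absurd (Finset.mem_univ _) h), Pi.single_eq_same]

theorem sum_single_mul {r : ℕ} {U : Fin r → Fin (r + 1) → PowerSeries k} (s : Fin r) (f : PowerSeries k)
    (j : Fin (r + 1)) : ∑ l, (Pi.single s f : Fin r → PowerSeries k) l * U l j = f * U s j := by
  rw [Finset.sum_eq_single s (fun l _ hl => by rw [Pi.single_eq_of_ne hl, zero_mul])
    (fun h => absurd (Finset.mem_univ _) h), Pi.single_eq_same]

/-- The values of homomorphisms when all relations are divisible by the conductor. -/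
theorem mem_homVals_of_dvd {r : ℕ} {U : Fin r → Fin (r + 1) → PowerSeries k} {Γ : Set ℕ}
    (hA : ∀ f : PowerSeries k, f ∈ A ↔ Supp Γ f) {c : ℕ} (hc : ∀ m, c ≤ m → m ∈ Γ)
    (hdvd : ∀ α : Fin r → PowerSeries k, (∀ j, ∑ s, α s * U s j ∈ A) → ∀ s, X ^ c ∣ α s)
    (N : Submodule ↥A (PowerSeries k)) (y : Fin r → PowerSeries k) :
    y ∈ homVals A U (X ^ c) N ↔ ∀ s, ∀ f : PowerSeries k, f * y s ∈ N := by
  rw [mem_homVals]
  constructor
  · intro h s f
    obtain ⟨g, hg, he⟩ := h (Pi.single s (X ^ c * f)) fun j => by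
      rw [sum_single_mul, mul_assoc]
      exact tau_mem hA hc _
    rw [pairs_single, mul_assoc] at he
    exact mul_left_cancel₀ (pow_ne_zero _ X_ne_zero) he ▸ hg
  · intro h α hα
    choose g hg using hdvd α hα
    refine ⟨∑ s, g s * y s, Submodule.sum_mem _ fun s _ => h s _, ?_⟩
    rw [Finset.mul_sum]
    exact Finset.sum_congr rfl fun s _ => by rw [hg s]; ring

theorem supp_dvd {c : ℕ} {f : PowerSeries k} : Supp {m | c ≤ m} f ↔ X ^ c ∣ f :=
  ⟨fun h => dvd_of_supp h fun _ hm => hm, fun h m hm => by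
    by_contra hlt
    exact hm (coeff_of_dvd h (Nat.lt_of_not_le hlt))⟩

/-- Solutions of the recursion for vectors with coefficients above the conductor. -/
theorem exists_rec (r : ℕ) (c : ℕ) (w : ℕ → PowerSeries k) (hw : ∀ s, s < r → X ^ c ∣ w s) :
    ∃ P : ℕ → PowerSeries k, (∀ s, s ≤ r → X ^ c ∣ P s) ∧ ∀ s, s < r → X * P s - P (s + 1) = w s := by
  let P : ℕ → PowerSeries k := fun s => Nat.rec (motive := fun _ => PowerSeries k) 0 (fun l p => X * p - w l) s
  refine ⟨P, fun s hs => ?_, fun s _ => sub_sub_cancel _ _⟩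
  induction s with
  | zero => exact dvd_zero _
  | succ s ih => exact dvd_sub (Dvd.dvd.mul_left (ih (by omega)) _) (hw s (by omega))

theorem span_Iic_eq {n : ℕ} (hA : ∀ f : PowerSeries k, f ∈ A ↔ Supp {m | m = 0 ∨ n ≤ m} f) (r : ℕ)
    (f : PowerSeries k) :
    f ∈ Submodule.span ↥A ((fun a : ℕ => (X : PowerSeries k) ^ a) '' Set.Iic r) ↔
      Supp {m | m ≤ r ∨ n ≤ m} f := by
  classical
  rw [← Finset.coe_Iic, span_monomials hA]
  refine forall_congr' fun m => imp_congr_right fun _ => ?_
  simp only [Set.mem_iUnion, Set.mem_image, Finset.mem_Iic, Set.mem_ofPred_eq, exists_prop]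
  constructor
  · rintro ⟨a, ha, g, hg, rfl⟩
    rcases hg with rfl | hg
    · exact Or.inl (by omega)
    · exact Or.inr (by omega)
  · rintro (h | h)
    · exact ⟨m, h, 0, Or.inl rfl, add_zero m⟩
    · exact ⟨0, Nat.zero_le _, m, Or.inr h, zero_add m⟩

/-- The length for the monomial modules over the cubical ring. -/
theorem ext_cubical_mid (hA : ∀ f : PowerSeries k, f ∈ A ↔ Supp {m | m = 0 ∨ n ≤ m} f) (i : ℕ) (hi : i + 2 ≤ n) :
    Module.length ↥A (Abelian.Ext
      (ModuleCat.of ↥A ↥(Submodule.span ↥A ((fun a : ℕ => (X : PowerSeries k) ^ a) '' Set.Iic i)))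
      (ModuleCat.of ↥A ↥(Submodule.span ↥A ((fun a : ℕ => (X : PowerSeries k) ^ a) '' Set.Iic i))) 1) =
      ((i * (n - 2 - i) : ℕ) : ℕ∞) := by
  classical
  set N := Submodule.span ↥A ((fun a : ℕ => (X : PowerSeries k) ^ a) '' Set.Iic i) with hNdef
  have hN : ∀ f, f ∈ N ↔ Supp {m | m ≤ i ∨ n ≤ m} f := span_Iic_eq hA i
  have hc : ∀ m, n ≤ m → m ∈ ({m | m = 0 ∨ n ≤ m} : Set ℕ) := fun m hm => Or.inr hm
  obtain ⟨e⟩ := ext_cons hA hc i N
  rw [e.length_eq]
  have hY : ∀ y, y ∈ homVals A (consU i) (X ^ n) N ↔ ∀ s : Fin i, X ^ n ∣ (y s : PowerSeries k) := by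
    intro y
    rw [mem_homVals_of_dvd hA hc (rels_dvd hA (by omega))]
    refine forall_congr' fun s => ⟨fun h => X_pow_dvd_iff.2 fun m hm => ?_, fun h f =>
      mem_N_cubical hN (fun m hm => Or.inr hm) (h.mul_left f)⟩
    by_contra hne
    rcases (hN _).1 (by simpa using h 1) m hne with h0 | h0
    · have := (hN _).1 (h (X ^ (n - 1 - m))) (n - 1)
      rw [show n - 1 = m + (n - 1 - m) by omega, show m + (n - 1 - m) - m = n - 1 - m by omega, coeff_X_pow_mul] at this
      rcases this hne with h1 | h1 <;> omega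
    · omega
  let π : (Fin i → PowerSeries k) →ₗ[k] (Fin i × Fin (n - 2 - i) → k) :=
    LinearMap.pi fun p => (coeff (n + (i + 2 + (p.2 : ℕ)))).comp (LinearMap.proj p.1)
  have hπ : ∀ y p, π y p = coeff (n + (i + 2 + (p.2 : ℕ))) (y p.1) := fun y p => rfl
  rw [length_quotient (maximal_residue hA hc) _ _ π (fun v => ?_) (fun y hy => ?_)]
  · rw [Module.finrank_pi, Fintype.card_prod, Fintype.card_fin, Fintype.card_fin]
  · refine ⟨fun s => X ^ n * PowerSeries.mk fun m => if h : i + 2 ≤ m ∧ m < n then v (s, ⟨m - (i + 2), by omega⟩) else 0,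
      (hY _).2 fun s => dvd_mul_right _ _, ?_⟩
    funext p
    rw [hπ, add_comm n, coeff_X_pow_mul, coeff_mk, dif_pos ⟨by omega, by omega⟩]
    exact congrArg v (Prod.ext rfl (Fin.ext (Nat.add_sub_cancel_left _ _)))
  · constructor
    · intro h
      choose z hz using (hY y).1 hy
      have hzero : ∀ (s : Fin i) m, i + 2 ≤ m → m < n → coeff m (z s) = 0 := fun s m h1 h2 => by
        have := congrFun h (s, ⟨m - (i + 2), by omega⟩)
        rw [hπ, hz, show n + (i + 2 + (m - (i + 2))) = m + n by omega, coeff_X_pow_mul] at this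
        exact this
      let Z : ℕ → ℕ → k := fun s m => coeff m (extZ z s)
      let V : ℕ → ℕ → k := fun p m =>
        if p ≤ m then ∑ l ∈ Finset.range (i + 1 - m), Z (p + l) (m + 1 + l)
        else -∑ l ∈ Finset.range (m + 1), Z (p - 1 - l) (m - l)
      let L : ℕ → PowerSeries k := fun p => PowerSeries.mk fun m => if m ≤ i then V p m else 0
      have hL : ∀ p, Supp {m | m ≤ i ∨ n ≤ m} (L p) := fun p m hm => by
        simp only [L, coeff_mk] at hm
        split_ifs at hm with h'
        · exact Or.inl h'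
        · exact absurd rfl hm
      have hcoef : ∀ s, s < i → ∀ m, m ≤ i + 1 → coeff m (X * L s - L (s + 1)) = Z s m := by
        intro s hs m hm
        rcases Nat.eq_zero_or_pos m with rfl | hpos
        · simp [L, V, coeff_zero_X_mul, Z]
        · obtain ⟨q, rfl⟩ : ∃ q, m = q + 1 := ⟨m - 1, by omega⟩
          simp only [map_sub, coeff_succ_X_mul, L, coeff_mk]
          rw [if_pos (by omega : q ≤ i)]
          by_cases hsq : s ≤ q
          · simp only [V, if_pos hsq]
            rw [show i + 1 - q = (i - q) + 1 by omega, Finset.sum_range_succ', add_zero, add_zero]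
            have e : ∑ l ∈ Finset.range (i - q), Z (s + (l + 1)) (q + 1 + (l + 1)) =
                ∑ l ∈ Finset.range (i - q), Z (s + 1 + l) (q + 1 + 1 + l) := Finset.sum_congr rfl fun l _ => by
              congr 1 <;> omega
            rw [e]
            by_cases hq : q + 1 ≤ i
            · rw [if_pos hq, if_pos (show s + 1 ≤ q + 1 by omega), show i + 1 - (q + 1) = i - q by omega]
              ring
            · rw [if_neg hq, show i - q = 0 by omega]
              simp
          · simp only [V, if_neg hsq, if_neg (show ¬ s + 1 ≤ q + 1 by omega), if_pos (show q + 1 ≤ i by omega)]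
            rw [Finset.sum_range_succ' _ (q + 1), Nat.sub_zero, Nat.sub_zero, show s + 1 - 1 = s by omega]
            have e : ∑ l ∈ Finset.range (q + 1), Z (s - (l + 1)) (q + 1 - (l + 1)) =
                ∑ l ∈ Finset.range (q + 1), Z (s - 1 - l) (q - l) := Finset.sum_congr rfl fun l _ => by
              congr 1 <;> omega
            rw [e]; ring
      have hres : ∀ s, s < i → X ^ n ∣ (extZ z s - (X * L s - L (s + 1))) := fun s hs =>
        X_pow_dvd_iff.2 fun m hm => by
          rw [map_sub]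
          by_cases hm' : m ≤ i + 1
          · rw [hcoef s hs m hm']; exact sub_self _
          · have h1 : coeff m (extZ z s) = 0 := by
              rw [extZ, dif_pos hs]; exact hzero _ m (by omega) hm
            obtain ⟨q, rfl⟩ : ∃ q, m = q + 1 := ⟨m - 1, by omega⟩
            rw [h1, map_sub, coeff_succ_X_mul]
            simp only [L, coeff_mk, if_neg (show ¬ q ≤ i by omega), if_neg (show ¬ q + 1 ≤ i by omega), sub_zero]
      obtain ⟨P, hP, hPrec⟩ := exists_rec i n (fun s => extZ z s - (X * L s - L (s + 1))) hres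
      refine mem_genVals.2 ⟨fun j => L j + P j, fun j => (hN _).2 (supp_add (hL _)
        ((hN _).1 (mem_N_cubical hN (fun m hm => Or.inr hm) (hP _ (Nat.le_of_lt_succ j.2))))), fun s => ?_⟩
      rw [sum_consU_mul, Fin.val_castSucc, Fin.val_succ, hz s]
      have := hPrec s s.2
      rw [extZ_fin] at this
      congr 1
      linear_combination -this
    · intro h
      obtain ⟨m, hm, he⟩ := mem_genVals.1 h
      funext p
      rw [hπ, he, sum_consU_mul, add_comm n, coeff_X_pow_mul, Pi.zero_apply, map_sub,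
        show i + 2 + (p.2 : ℕ) = (i + 1 + (p.2 : ℕ)) + 1 by omega, coeff_succ_X_mul, sub_eq_zero]
      have h1 : ∀ j q, i + 1 ≤ q → q < n → coeff q (m j) = 0 := fun j q h1 h2 => by
        by_contra hne
        rcases (hN _).1 (hm j) q hne with h0 | h0 <;> omega
      rw [h1 _ _ (by omega) (by omega), h1 _ _ (by omega) (by omega)]

/-- The length for the normalisation when the values of homomorphisms are monomial. -/
theorem ext_top {Γ : Set ℕ} (hA : ∀ f : PowerSeries k, f ∈ A ↔ Supp Γ f) {c : ℕ} (hc : ∀ m, c ≤ m → m ∈ Γ)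
    (r : ℕ) (hspan : ∀ f : PowerSeries k, f ∈ Submodule.span ↥A ((fun a : ℕ => (X : PowerSeries k) ^ a) '' Set.Iic r))
    (d : ℕ) (hd : d ≤ c)
    (hY : ∀ y, y ∈ homVals A (consU r) (X ^ c)
      (Submodule.span ↥A ((fun a : ℕ => (X : PowerSeries k) ^ a) '' Set.Iic r)) ↔ ∀ s : Fin r, Supp {m | d ≤ m} (y s : PowerSeries k)) :
    Module.length ↥A (Abelian.Ext
      (ModuleCat.of ↥A ↥(Submodule.span ↥A ((fun a : ℕ => (X : PowerSeries k) ^ a) '' Set.Iic r)))
      (ModuleCat.of ↥A ↥(Submodule.span ↥A ((fun a : ℕ => (X : PowerSeries k) ^ a) '' Set.Iic r))) 1) =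
      ((r * (c - d) : ℕ) : ℕ∞) := by
  classical
  obtain ⟨e⟩ := ext_cons hA hc r (Submodule.span ↥A ((fun a : ℕ => (X : PowerSeries k) ^ a) '' Set.Iic r))
  rw [e.length_eq, length_monomial (maximal_residue hA hc) _ _ (fun _ => {m | d ≤ m}) (fun _ => {m | c ≤ m})
    (fun _ => Finset.Ico d c) hY (fun y => ?_) (fun s m (hm : c ≤ m) => le_trans hd hm)
    (fun s m => by simp)]
  · simp
  · rw [mem_genVals]
    constructor
    · rintro ⟨m, -, he⟩ s
      exact supp_dvd.2 ⟨_, he s⟩
    · intro h
      choose g hg using fun s => supp_dvd.1 (h s)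
      obtain ⟨P, -, hP⟩ := exists_rec r 0 (fun s => extZ g s) (fun s _ => by simp)
      refine ⟨fun j => P j, fun j => hspan _, fun s => ?_⟩
      rw [sum_consU_mul, Fin.val_castSucc, Fin.val_succ, hP s s.2, extZ_fin]
      exact hg s

/-- The length for the normalisation of the cubical ring. -/
theorem ext_cubical_top (hA : ∀ f : PowerSeries k, f ∈ A ↔ Supp {m | m = 0 ∨ n ≤ m} f) (hn : 1 ≤ n) :
    Module.length ↥A (Abelian.Ext
      (ModuleCat.of ↥A ↥(Submodule.span ↥A ((fun a : ℕ => (X : PowerSeries k) ^ a) '' Set.Iic (n - 1))))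
      (ModuleCat.of ↥A ↥(Submodule.span ↥A ((fun a : ℕ => (X : PowerSeries k) ^ a) '' Set.Iic (n - 1)))) 1) =
      (((n - 1) * n : ℕ) : ℕ∞) := by
  have hc : ∀ m, n ≤ m → m ∈ ({m | m = 0 ∨ n ≤ m} : Set ℕ) := fun m hm => Or.inr hm
  have hspan : ∀ f : PowerSeries k,
      f ∈ Submodule.span ↥A ((fun a : ℕ => (X : PowerSeries k) ^ a) '' Set.Iic (n - 1)) := fun f =>
    (span_Iic_eq hA _ f).2 fun m _ => show m ≤ n - 1 ∨ n ≤ m by omega
  simpa using ext_top hA hc (n - 1) hspan 0 (Nat.zero_le n) fun y => by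
    rw [mem_homVals_of_dvd hA hc (rels_dvd hA (by omega))]
    exact ⟨fun _ s m _ => Nat.zero_le m, fun _ s f => hspan _⟩

/-- The relations among the generators of a partial normalisation. -/
noncomputable def partU (n i : ℕ) (s : Fin i) (j : Fin (i + 1)) : PowerSeries k :=
  (if j = s.succ then 1 else 0) - if j = 0 then X ^ (n - i + (s : ℕ)) else 0

theorem sum_partU_succ {i : ℕ} (α : Fin i → PowerSeries k) (s : Fin i) :
    ∑ l, α l * partU n i l s.succ = α s := by
  rw [Finset.sum_eq_single s (fun l _ hl => ?_) (fun h => absurd (Finset.mem_univ _) h)]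
  · simp [partU, Fin.succ_ne_zero]
  · simp [partU, Fin.succ_ne_zero, Ne.symm hl]

theorem sum_partU_zero {i : ℕ} (α : Fin i → PowerSeries k) :
    ∑ l, α l * partU n i l 0 = -∑ l, α l * X ^ (n - i + (l : ℕ)) := by
  rw [← Finset.sum_neg_distrib]
  exact Finset.sum_congr rfl fun l _ => by simp [partU, (Fin.succ_ne_zero l).symm]

theorem sum_partU_mul {i : ℕ} (m : Fin (i + 1) → PowerSeries k) (s : Fin i) :
    ∑ j, partU n i s j * m j = m s.succ - X ^ (n - i + (s : ℕ)) * m 0 := by
  simp only [partU, sub_mul, Finset.sum_sub_distrib, ite_mul, zero_mul, one_mul]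
  rw [Finset.sum_ite_eq', if_pos (Finset.mem_univ _), Finset.sum_ite_eq', if_pos (Finset.mem_univ _)]

/-- The length for the partial normalisations of the cubical ring. -/
theorem ext_cubical_partial (hA : ∀ f : PowerSeries k, f ∈ A ↔ Supp {m | m = 0 ∨ n ≤ m} f) (i : ℕ) (hi : i + 2 ≤ n) :
    Module.length ↥A (Abelian.Ext
      (ModuleCat.of ↥A ↥(Submodule.span ↥A ((fun a : ℕ => (X : PowerSeries k) ^ a) '' ({0} ∪ Set.Icc (n - i) (n - 1)))))
      (ModuleCat.of ↥A ↥(Submodule.span ↥A ((fun a : ℕ => (X : PowerSeries k) ^ a) '' ({0} ∪ Set.Icc (n - i) (n - 1))))) 1) =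
      ((i * (n - 1) : ℕ) : ℕ∞) := by
  classical
  set N := Submodule.span ↥A ((fun a : ℕ => (X : PowerSeries k) ^ a) '' ({0} ∪ Set.Icc (n - i) (n - 1))) with hNdef
  have hN : ∀ f, f ∈ N ↔ Supp {m | m = 0 ∨ n - i ≤ m} f := by
    intro f
    rw [hNdef, ← Finset.coe_Icc, ← Finset.coe_singleton, ← Finset.coe_union, span_monomials hA]
    refine forall_congr' fun m => imp_congr_right fun _ => ?_
    simp only [Set.mem_iUnion, Set.mem_image, Finset.mem_union, Finset.mem_singleton, Finset.mem_Icc, Set.mem_ofPred_eq,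
      exists_prop]
    constructor
    · rintro ⟨a, ha, g, hg, rfl⟩
      omega
    · intro h
      by_cases h1 : m = 0 ∨ n ≤ m
      · exact ⟨0, Or.inl rfl, m, h1, zero_add m⟩
      · exact ⟨m, Or.inr ⟨by omega, by omega⟩, 0, Or.inl rfl, add_zero m⟩
  have hc : ∀ m, n ≤ m → m ∈ ({m | m = 0 ∨ n ≤ m} : Set ℕ) := fun m hm => Or.inr hm
  let b : Fin (i + 1) → PowerSeries k := Fin.cons 1 fun s : Fin i => X ^ (n - i + (s : ℕ))
  have hb : (fun a : ℕ => (X : PowerSeries k) ^ a) '' ({0} ∪ Set.Icc (n - i) (n - 1)) = Set.range b := by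
    ext f
    simp only [b, Set.mem_image, Set.mem_union, Set.mem_singleton_iff, Set.mem_Icc, Set.mem_range, Fin.exists_fin_succ,
      Fin.cons_zero, Fin.cons_succ]
    constructor
    · rintro ⟨a, ha | ha, rfl⟩
      · exact Or.inl (by rw [ha, pow_zero])
      · exact Or.inr ⟨⟨a - (n - i), by omega⟩, by congr 1; simp only; omega⟩
    · rintro (h | ⟨s, rfl⟩)
      · exact ⟨0, Or.inl rfl, by rw [pow_zero, h]⟩
      · exact ⟨_, Or.inr ⟨Nat.le_add_right _ _, by omega⟩, rfl⟩
  obtain ⟨e⟩ := ext_one_equiv N b (partU n i) (X ^ n)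
    (fun x hx => (mul_eq_zero.1 hx).resolve_left (pow_ne_zero _ X_ne_zero)) (tau_mem hA hc)
    (fun s => by rw [sum_partU_mul]; simp [b])
    (fun α h => funext fun s => by have := h s.succ; rwa [sum_partU_succ] at this)
    (fun h hh => ⟨fun s => h s.succ, fun j => by
      cases j using Fin.cases with
      | zero =>
        rw [sum_partU_zero]
        simp [b, Fin.sum_univ_succ] at hh
        linear_combination -hh
      | succ s => rw [sum_partU_succ]⟩)
  rw [← hb, ← hNdef] at e
  rw [e.length_eq]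
  have hrel : ∀ α : Fin i → PowerSeries k, (∀ j, ∑ s, α s * partU n i s j ∈ A) → ∀ s, X ^ n ∣ α s := by
    intro α h
    have h1 : ∀ (s : Fin i) m, m ≠ 0 → m < n → coeff m (α s) = 0 := fun s m h0 hm => by
      by_contra hne
      have := (hA _).1 (h s.succ) m (by rwa [sum_partU_succ])
      rcases this with h2 | h2 <;> omega
    intro s
    refine X_pow_dvd_iff.2 fun m hm => ?_
    rcases Nat.eq_zero_or_pos m with rfl | hpos
    · by_contra hne
      have hz := (hA _).1 (h 0) (n - i + (s : ℕ))
      rw [sum_partU_zero, map_neg, map_sum, Finset.sum_eq_single s (fun l _ hl => ?_)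
        (fun h' => absurd (Finset.mem_univ _) h'), coeff_mul_X_pow'] at hz
      · rw [if_pos le_rfl, Nat.sub_self] at hz
        rcases hz (neg_ne_zero.2 hne) with h2 | h2 <;> omega
      · rw [coeff_mul_X_pow']
        split_ifs with hle
        · exact h1 l _ (fun h0 => hl (Fin.ext (by omega))) (by omega)
        · rfl
    · exact h1 s m (by omega) hm
  have hY : ∀ y, y ∈ homVals A (partU n i) (X ^ n) N ↔ ∀ s : Fin i, Supp {m | n - i ≤ m} (y s : PowerSeries k) := by
    intro y
    rw [mem_homVals_of_dvd hA hc hrel]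
    refine forall_congr' fun s => ⟨fun h m hm => ?_, fun h f => (hN _).2 ?_⟩
    · rcases (hN _).1 (by simpa using h 1) m hm with rfl | h0
      · have := (hN _).1 (h (X ^ 1)) (0 + 1) (by rw [coeff_X_pow_mul]; exact hm)
        exact absurd this (show ¬ (_ ∨ _) by omega)
      · exact h0
    · exact supp_mul (S := Set.univ) (fun _ _ => trivial) h fun p _ q hq => Or.inr (le_trans hq (Nat.le_add_left q p))
  rw [length_monomial (maximal_residue hA hc) _ _ (fun _ => {m | n - i ≤ m})
    (fun _ => (n + ·) '' {m | m = 0 ∨ n - i ≤ m}) (fun _ => (Finset.Ico (n - i) (n + (n - i))).erase n) hY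
    (fun y => ?hW) ?hT (fun s m => ?hD)]
  · simp only [Finset.sum_const, Finset.card_univ, Fintype.card_fin, smul_eq_mul, Finset.card_erase_of_mem
      (show n ∈ Finset.Ico (n - i) (n + (n - i)) by simp; omega), Nat.card_Ico]
    norm_num
  case hW =>
    rw [mem_genVals]
    constructor
    · rintro ⟨m, hm, he⟩ s
      rw [he s, sum_partU_mul]
      exact supp_image_X_pow_mul (supp_add ((hN _).1 (hm _))
        (supp_neg (supp_mul (supp_X_pow (show n - i + (s : ℕ) ∈ {m | m = 0 ∨ n - i ≤ m} from Or.inr (Nat.le_add_right _ _)))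
          ((hN _).1 (hm 0)) fun p hp q hq => by simp only [Set.mem_ofPred_eq] at hp hq ⊢; omega)) |>
            fun h => by simpa [sub_eq_add_neg] using h)
    · intro h
      choose g hg hge using fun s => exists_eq_X_pow_mul (h s)
      refine ⟨Fin.cons 0 g, fun j => ?_, fun s => ?_⟩
      · cases j using Fin.cases with
        | zero => exact N.zero_mem
        | succ s => exact (hN _).2 (hg s)
      · rw [sum_partU_mul]; simp [hge s]
  case hT =>
    rintro s m ⟨t, ht, rfl⟩
    show n - i ≤ n + t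
    omega
  case hD =>
    simp only [Finset.mem_erase, Finset.mem_Ico, shift_mem, Set.mem_ofPred_eq]
    omega

/-- The length for the normalisation of the singularity of type `E₆`. -/
theorem ext_E6_top (hA : ∀ f : PowerSeries k, f ∈ A ↔ Supp {m | m = 0 ∨ m = 3 ∨ m = 4 ∨ 6 ≤ m} f) :
    Module.length ↥A (Abelian.Ext
      (ModuleCat.of ↥A ↥(Submodule.span ↥A ((fun a : ℕ => (X : PowerSeries k) ^ a) '' Set.Iic 2)))
      (ModuleCat.of ↥A ↥(Submodule.span ↥A ((fun a : ℕ => (X : PowerSeries k) ^ a) '' Set.Iic 2))) 1) = 6 := by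
  classical
  have hc : ∀ m, 6 ≤ m → m ∈ ({m | m = 0 ∨ m = 3 ∨ m = 4 ∨ 6 ≤ m} : Set ℕ) := fun m hm => by
    simp only [Set.mem_ofPred_eq]; omega
  have hspan : ∀ f : PowerSeries k,
      f ∈ Submodule.span ↥A ((fun a : ℕ => (X : PowerSeries k) ^ a) '' Set.Iic 2) := fun f => by
    rw [← Finset.coe_Iic, span_monomials hA]
    intro m _
    simp only [Set.mem_iUnion, Set.mem_image, Finset.mem_Iic, Set.mem_ofPred_eq, exists_prop]
    refine ⟨if m = 1 then 1 else if m = 2 ∨ m = 5 then 2 else 0, by split_ifs <;> omega,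
      m - (if m = 1 then 1 else if m = 2 ∨ m = 5 then 2 else 0), by split_ifs <;> omega, by split_ifs <;> omega⟩
  have hrel : ∀ α : Fin 2 → PowerSeries k, (∀ j, ∑ s, α s * consU 2 s j ∈ A) → ∀ s, X ^ 3 ∣ α s := by
    intro α h
    have hz : ∀ (j : Fin 3) m, m = 1 ∨ m = 2 ∨ m = 5 → coeff m (∑ s, α s * consU 2 s j) = 0 := fun j m hm => by
      by_contra hne
      have := (hA _).1 (h j) m hne
      simp only [Set.mem_ofPred_eq] at this
      omega
    have a1 := hz 0 1 (by omega)
    have a2 := hz 0 2 (by omega)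
    have b1 := hz 1 1 (by omega)
    have b2 := hz 1 2 (by omega)
    have c1 := hz 2 1 (by omega)
    have c2 := hz 2 2 (by omega)
    rw [sum_consU] at a1 a2 b1 b2 c1 c2
    norm_num [extZ, coeff_succ_X_mul] at a1 a2 b1 b2 c1 c2
    intro s
    refine X_pow_dvd_iff.2 fun m hm => ?_
    fin_cases s <;> interval_cases m <;> simp [coeff_zero_eq_constantCoeff_apply] <;> grind
  have h6 := ext_top hA hc 2 hspan 3 (by norm_num) fun y => by
    rw [mem_homVals]
    constructor
    · intro h s m hm
      obtain ⟨g, -, hg⟩ := h (Pi.single s (X ^ 3)) fun j => by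
        rw [sum_single_mul]
        refine (hA _).2 fun q hq => ?_
        rw [coeff_X_pow_mul'] at hq
        split_ifs at hq with hle
        · by_contra hn
          simp only [Set.mem_ofPred_eq] at hn
          apply hq
          rw [show q - 3 = 2 by omega]
          simp only [consU, map_sub]
          split_ifs <;> simp [coeff_X, coeff_one]
        · exact absurd rfl hq
      rw [pairs_single] at hg
      have := congrArg (coeff (m + 3)) hg
      rw [coeff_X_pow_mul, coeff_X_pow_mul'] at this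
      split_ifs at this with hle
      · show 3 ≤ m
        omega
      · exact absurd this.symm hm
    · intro h α hα
      choose a ha using hrel α hα
      choose b hb using fun s => supp_dvd.1 (h s)
      refine ⟨∑ s, a s * b s, hspan _, ?_⟩
      rw [Finset.mul_sum]
      exact Finset.sum_congr rfl fun s _ => by rw [ha s, hb s]; ring
  simpa using h6

end Cubical

end Groth.Agent.TFExt
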