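import Groth.Agent.TFExt.Multi

/-!
# The normalisation of the cubical ring
-/

set_option autoImplicit false

universe u

open PowerSeries CategoryTheory CategoryTheory.Abelian

namespace Groth.Agent.TFExt

variable {k : Type u} [Field k] {A : Subalgebra k (PowerSeries k)}

/-- Ext groups of isomorphic modules. -/
theorem ext_length_congr {A : Type u} [CommRing A] {M M' N N' : ModuleCat.{u} A} (e : M ≅ M') (e' : N ≅ N') (m : ℕ) :
    Module.length A (Abelian.Ext M N m) = Module.length A (Abelian.Ext M' N' m) := by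
  let f : Abelian.Ext M N m →ₗ[A] Abelian.Ext M' N' m :=
    ((Ext.mk₀ e'.hom).postcompOfLinear A M' (add_zero m)).comp ((Ext.mk₀ e.inv).precompOfLinear A N (zero_add m))
  let g : Abelian.Ext M' N' m →ₗ[A] Abelian.Ext M N m :=
    ((Ext.mk₀ e'.inv).postcompOfLinear A M (add_zero m)).comp ((Ext.mk₀ e.hom).precompOfLinear A N' (zero_add m))
  refine (LinearEquiv.ofLinear f g ?_ ?_).length_eq
  · ext x
    simp [f, g, Ext.comp_assoc_of_second_deg_zero, Ext.comp_assoc_of_third_deg_zero]
  · ext x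
    simp [f, g, Ext.comp_assoc_of_second_deg_zero, Ext.comp_assoc_of_third_deg_zero]

theorem chi_cubical_top {n : ℕ} (hn : 2 ≤ n) (hA : ∀ f : PowerSeries k, f ∈ A ↔ Supp {m | m = 0 ∨ n ≤ m} f) :
    Module.length ↥A (Abelian.Ext (ModuleCat.of ↥A (PowerSeries k)) (ModuleCat.of ↥A (PowerSeries k)) 1) =
      (((n - 1) ^ 2 : ℕ) : ℕ∞) + Module.length ↥A ((PowerSeries k →ₗ[↥A] PowerSeries k) ⧸
        LinearMap.range (Algebra.lsmul ↥A ↥A (PowerSeries k) : ↥A →ₐ[↥A] Module.End ↥A (PowerSeries k)).toLinearMap) := by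
  classical
  have hc : ∀ m, n ≤ m → m ∈ ({m | m = 0 ∨ n ≤ m} : Set ℕ) := fun m hm => Or.inr hm
  have htop : Submodule.span ↥A ((fun a : ℕ => (X : PowerSeries k) ^ a) '' Set.Iic (n - 1)) = ⊤ :=
    eq_top_iff.2 fun f _ => (span_Iic_eq hA _ f).2 fun m _ => show m ≤ n - 1 ∨ n ≤ m by omega
  let e : ModuleCat.of ↥A ↥(Submodule.span ↥A ((fun a : ℕ => (X : PowerSeries k) ^ a) '' Set.Iic (n - 1))) ≅
      ModuleCat.of ↥A (PowerSeries k) := ((LinearEquiv.ofEq _ _ htop).trans Submodule.topEquiv).toModuleIso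
  rw [← ext_length_congr e e 1, ext_cubical_top hA (by omega)]
  -- endomorphisms are multiplications
  have hmul : ∀ (φ : PowerSeries k →ₗ[↥A] PowerSeries k) (f : PowerSeries k), φ f = f * φ 1 := by
    intro φ f
    have h1 := φ.map_smul (⟨X ^ n * f, tau_mem hA hc f⟩ : ↥A) 1
    have h2 := φ.map_smul (⟨X ^ n, by simpa using tau_mem hA hc (1 : PowerSeries k)⟩ : ↥A) f
    simp only [Algebra.smul_def] at h1 h2
    change φ (X ^ n * f * 1) = X ^ n * f * φ 1 at h1
    change φ (X ^ n * f) = X ^ n * φ f at h2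
    rw [mul_one, h2] at h1
    exact mul_left_cancel₀ (pow_ne_zero n X_ne_zero) (by linear_combination h1)
  let ev : (PowerSeries k →ₗ[↥A] PowerSeries k) ≃ₗ[↥A] PowerSeries k :=
    LinearEquiv.ofBijective (LinearMap.applyₗ (1 : PowerSeries k))
      ⟨fun φ ψ h => LinearMap.ext fun f => (hmul φ f).trans ((congrArg (f * ·) h).trans (hmul ψ f).symm),
        fun g => ⟨LinearMap.mulRight ↥A g, one_mul g⟩⟩
  have hW : Submodule.map ev.toLinearMap
      (LinearMap.range (Algebra.lsmul ↥A ↥A (PowerSeries k) : ↥A →ₐ[↥A] Module.End ↥A (PowerSeries k)).toLinearMap) =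
      (1 : Submodule ↥A (PowerSeries k)) := by
    rw [← LinearMap.range_comp, Submodule.one_eq_range]
    congr 1
    exact LinearMap.ext fun a => by simp [ev, Algebra.smul_def]
  rw [(Submodule.Quotient.equiv _ _ ev hW).length_eq]
  have hY : Module.length ↥A (PowerSeries k ⧸ (1 : Submodule ↥A (PowerSeries k))) = ((n - 1 : ℕ) : ℕ∞) := by
    let π : PowerSeries k →ₗ[k] (Fin (n - 1) → k) := LinearMap.pi fun p => coeff ((p : ℕ) + 1)
    have hπ : ∀ f p, π f p = coeff ((p : ℕ) + 1) f := fun _ _ => rfl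
    have h := length_quotient (maximal_residue hA hc) (⊤ : Submodule ↥A (PowerSeries k)) 1 π (fun v => ?_) (fun f _ => ?_)
    · rw [Module.finrank_pi, Fintype.card_fin] at h
      rw [← h]
      exact (Submodule.Quotient.equiv _ _ Submodule.topEquiv
        (Submodule.map_comap_eq_of_surjective (Submodule.topEquiv : (⊤ : Submodule ↥A (PowerSeries k)) ≃ₗ[↥A] _).surjective 1)).length_eq.symm
    · refine ⟨PowerSeries.mk fun m => if h : 1 ≤ m ∧ m < n then v ⟨m - 1, by omega⟩ else 0, trivial, ?_⟩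
      funext p
      rw [hπ, coeff_mk, dif_pos ⟨by omega, by omega⟩]
      exact congrArg v (Fin.ext (Nat.add_sub_cancel _ _))
    · rw [Submodule.mem_one]
      constructor
      · intro h
        refine ⟨⟨f, (hA f).2 fun m hm => ?_⟩, rfl⟩
        by_contra hne
        simp only [Set.mem_ofPred_eq] at hne
        have := congrFun h ⟨m - 1, by omega⟩
        rw [hπ] at this
        exact hm (by simpa [show m - 1 + 1 = m by omega] using this)
      · rintro ⟨a, rfl⟩
        funext p
        rw [hπ]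
        by_contra hne
        rcases (hA _).1 a.2 _ hne with h | h <;> omega
  rw [hY, ← Nat.cast_add]
  congr 1
  obtain ⟨l, rfl⟩ : ∃ l, n = l + 1 := ⟨n - 1, by omega⟩
  rw [Nat.add_sub_cancel]; ring

end Groth.Agent.TFExt
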