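import Groth.Agent.TFExt.Multi

/-!
# Rank one modules over the singularity of type `A` of odd index
-/

set_option autoImplicit false

universe u

open PowerSeries CategoryTheory CategoryTheory.Abelian

namespace Groth.Agent.TFExt

/-- The ring structure of a subalgebra of pairs of power series, with its expected semiring. -/
noncomputable scoped instance (priority := high) pairCommRing (k : Type u) [Field k]
    (A : Subalgebra k (PowerSeries k × PowerSeries k)) : CommRing ↥A := A.toCommRing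

variable {k : Type u} [Field k] {O : Subalgebra k (PowerSeries k × PowerSeries k)} {δ : ℕ}

theorem pair_residue (hδ : 1 ≤ δ) (hO : ∀ f, f ∈ O ↔ X ^ δ ∣ (f.1 - f.2)) (P : Ideal ↥O) (hP : P.IsMaximal) (a : ↥O) :
    ∃ c : k, a - algebraMap k ↥O c ∈ P := by
  refine ⟨constantCoeff (a : PowerSeries k × PowerSeries k).1, ?_⟩
  by_contra hg
  obtain ⟨y, i, hi, hyi⟩ := hP.exists_inv hg
  set z := (y : PowerSeries k × PowerSeries k) * ((a : PowerSeries k × PowerSeries k) -
    algebraMap k (PowerSeries k × PowerSeries k) (constantCoeff (a : PowerSeries k × PowerSeries k).1)) with hz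
  have hw : (i : PowerSeries k × PowerSeries k) = 1 - z := by
    have := congrArg (fun x : ↥O => (x : PowerSeries k × PowerSeries k)) hyi
    simp only [Subalgebra.coe_add, Subalgebra.coe_mul, Subalgebra.coe_sub, Subalgebra.coe_one] at this
    rw [← this]
    exact (add_sub_cancel_left _ _).symm
  have h0 : constantCoeff (a : PowerSeries k × PowerSeries k).2 = constantCoeff (a : PowerSeries k × PowerSeries k).1 := by
    have h := X_pow_dvd_iff.1 ((hO _).1 a.2) 0 (by omega)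
    rw [map_sub, sub_eq_zero] at h
    simpa using h.symm
  obtain ⟨v₁, hv₁⟩ : IsUnit (1 - z.1) := isUnit_iff_constantCoeff.2 (by simp [hz, ← PowerSeries.C_eq_algebraMap])
  obtain ⟨v₂, hv₂⟩ : IsUnit (1 - z.2) := isUnit_iff_constantCoeff.2 (by simp [hz, h0, ← PowerSeries.C_eq_algebraMap])
  have hinvA : (((v₁⁻¹ : (PowerSeries k)ˣ) : PowerSeries k), ((v₂⁻¹ : (PowerSeries k)ˣ) : PowerSeries k)) ∈ O := by
    refine (hO _).2 ?_
    have hzO : z ∈ O := O.mul_mem y.2 (O.sub_mem a.2 (O.algebraMap_mem _))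
    have e : ((v₁⁻¹ : (PowerSeries k)ˣ) : PowerSeries k) - ((v₂⁻¹ : (PowerSeries k)ˣ) : PowerSeries k) =
        ((v₁⁻¹ : (PowerSeries k)ˣ) : PowerSeries k) * ((v₂⁻¹ : (PowerSeries k)ˣ) : PowerSeries k) * (z.1 - z.2) := by
      have a1 : ((v₁⁻¹ : (PowerSeries k)ˣ) : PowerSeries k) * (1 - z.1) = 1 := by rw [← hv₁, Units.inv_mul]
      have a2 : ((v₂⁻¹ : (PowerSeries k)ˣ) : PowerSeries k) * (1 - z.2) = 1 := by rw [← hv₂, Units.inv_mul]
      linear_combination ((v₂⁻¹ : (PowerSeries k)ˣ) : PowerSeries k) * a1 - ((v₁⁻¹ : (PowerSeries k)ˣ) : PowerSeries k) * a2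
    show X ^ δ ∣ _ - _
    rw [e]
    exact ((hO z).1 hzO).mul_left _
  refine hP.ne_top (Ideal.eq_top_of_isUnit_mem _ hi (IsUnit.of_mul_eq_one (⟨_, hinvA⟩ : ↥O) (Subtype.ext ?_)))
  simp only [Subalgebra.coe_mul, Subalgebra.coe_one, hw]
  exact Prod.ext (show (1 - z.1) * _ = 1 by rw [← hv₁, Units.mul_inv]) (show (1 - z.2) * _ = 1 by rw [← hv₂, Units.mul_inv])

theorem mem_pair_span (hO : ∀ f, f ∈ O ↔ X ^ δ ∣ (f.1 - f.2)) {j : ℕ} (hj : j ≤ δ) (f : PowerSeries k × PowerSeries k) :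
    f ∈ Submodule.span ↥O ({(X ^ j, X ^ j), (X ^ δ, 0)} : Set (PowerSeries k × PowerSeries k)) ↔
      X ^ j ∣ f.2 ∧ X ^ δ ∣ (f.1 - f.2) := by
  rw [Submodule.mem_span_pair]
  constructor
  · rintro ⟨a, b, rfl⟩
    obtain ⟨w, hw⟩ := (hO _).1 a.2
    simp only [Algebra.smul_def]
    show X ^ j ∣ (a : PowerSeries k × PowerSeries k).2 * X ^ j + (b : PowerSeries k × PowerSeries k).2 * 0 ∧
      X ^ δ ∣ (a : PowerSeries k × PowerSeries k).1 * X ^ j + (b : PowerSeries k × PowerSeries k).1 * X ^ δ -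
        ((a : PowerSeries k × PowerSeries k).2 * X ^ j + (b : PowerSeries k × PowerSeries k).2 * 0)
    exact ⟨⟨(a : PowerSeries k × PowerSeries k).2, by ring⟩,
      ⟨w * X ^ j + (b : PowerSeries k × PowerSeries k).1, by linear_combination X ^ j * hw⟩⟩
  · rintro ⟨⟨a, ha⟩, ⟨b, hb⟩⟩
    refine ⟨⟨(a, a), (hO _).2 (by simp)⟩, ⟨(b, b), (hO _).2 (by simp)⟩, ?_⟩
    simp only [Algebra.smul_def]
    show (a * X ^ j + b * X ^ δ, a * X ^ j + b * 0) = f
    exact Prod.ext (by linear_combination -ha - hb) (by linear_combination -ha)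

/-- Coefficients in a window of divisibility. -/
theorem dvd_iff_window {f : PowerSeries k} {p m : ℕ} (hf : X ^ p ∣ f) :
    X ^ (p + m) ∣ f ↔ ∀ l : Fin m, coeff (p + (l : ℕ)) f = 0 := by
  rw [X_pow_dvd_iff]
  refine ⟨fun h l => h _ (by omega), fun h q hq => ?_⟩
  by_cases hqp : q < p
  · exact X_pow_dvd_iff.1 hf q hqp
  · have := h ⟨q - p, by omega⟩
    simpa [show p + (q - p) = q by omega] using this

theorem length_quotient_algebra {A : Type u} [CommRing A] [Algebra k A]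
    (hA : ∀ (P : Ideal A), P.IsMaximal → ∀ a, ∃ c : k, a - algebraMap k A c ∈ P)
    {E : Type u} [AddCommGroup E] [Module A E] [Module k E] [IsScalarTower k A E] (Y W : Submodule A E)
    {V : Type u} [AddCommGroup V] [Module k V] [FiniteDimensional k V] (π : E →ₗ[k] V)
    (hsurj : ∀ v, ∃ y ∈ Y, π y = v) (hker : ∀ y ∈ Y, (π y = 0 ↔ y ∈ W)) :
    Module.length A (↥Y ⧸ W.comap Y.subtype) = (Module.finrank k V : ℕ∞) := by
  let π' : ↥Y →ₗ[k] V := π.comp (Y.subtype.restrictScalars k)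
  have hk : LinearMap.ker π' = (W.comap Y.subtype).restrictScalars k := by
    ext y
    exact hker y.1 y.2
  have hs : Function.Surjective π' := fun v => by obtain ⟨y, hy, he⟩ := hsurj v; exact ⟨⟨y, hy⟩, he⟩
  let e : (↥Y ⧸ W.comap Y.subtype) ≃ₗ[k] V :=
    (Submodule.Quotient.restrictScalarsEquiv k (W.comap Y.subtype)).symm.trans
      ((Submodule.quotEquivOfEq _ _ hk.symm).trans (π'.quotKerEquivOfSurjective hs))
  haveI : FiniteDimensional k (↥Y ⧸ W.comap Y.subtype) := Module.Finite.equiv e.symm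
  rw [length_eq_finrank hA _, e.finrank_eq]

theorem ext_A_odd (hδ : 1 ≤ δ) (hO : ∀ f, f ∈ O ↔ X ^ δ ∣ (f.1 - f.2)) (i j : ℕ) (hi : i ≤ δ) (hj : j ≤ δ) :
    Module.length ↥O (Abelian.Ext
      (ModuleCat.of ↥O ↥(Submodule.span ↥O ({(X ^ i, X ^ i), (X ^ δ, 0)} : Set (PowerSeries k × PowerSeries k))))
      (ModuleCat.of ↥O ↥(Submodule.span ↥O ({(X ^ j, X ^ j), (X ^ δ, 0)} : Set (PowerSeries k × PowerSeries k)))) 1) =
      ((2 * min i j : ℕ) : ℕ∞) := by
  classical
  set N := Submodule.span ↥O ({(X ^ j, X ^ j), (X ^ δ, 0)} : Set (PowerSeries k × PowerSeries k))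
  have hN := mem_pair_span hO hj
  have hb : ({(X ^ i, X ^ i), (X ^ δ, 0)} : Set (PowerSeries k × PowerSeries k)) =
      Set.range ![((X ^ i, X ^ i) : PowerSeries k × PowerSeries k), (X ^ δ, 0)] := by
    rw [Matrix.range_cons, Matrix.range_cons, Matrix.range_empty, Set.union_empty, Set.union_singleton, Set.pair_comm]
  rw [hb]
  let τ : PowerSeries k × PowerSeries k := (X ^ δ, X ^ δ)
  let U : Fin 1 → Fin 2 → PowerSeries k × PowerSeries k := fun _ => ![(-X ^ (δ - i), 0), 1]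
  have hU : ∀ (n : Fin 2 → PowerSeries k × PowerSeries k) (s : Fin 1),
      ∑ l, U s l * n l = (-X ^ (δ - i) * (n 0).1 + (n 1).1, (n 1).2) := fun n s => by
    rw [show ∑ l, U s l * n l = ((-X ^ (δ - i), 0) : PowerSeries k × PowerSeries k) * n 0 + 1 * n 1 from Fin.sum_univ_two _]
    exact Prod.ext (show -X ^ (δ - i) * (n 0).1 + 1 * (n 1).1 = _ by rw [one_mul])
      (show 0 * (n 0).2 + 1 * (n 1).2 = (n 1).2 by ring)
  have hpw : X ^ (δ - i) * X ^ i = (X ^ δ : PowerSeries k) := by rw [← pow_add, Nat.sub_add_cancel hi]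
  have hne : (X ^ δ : PowerSeries k) ≠ 0 := pow_ne_zero _ X_ne_zero
  obtain ⟨e⟩ := ext_one_equiv N ![((X ^ i, X ^ i) : PowerSeries k × PowerSeries k), (X ^ δ, 0)] U τ
    (fun x hx => Prod.ext ((mul_eq_zero.1 (congrArg Prod.fst hx)).resolve_left hne)
      ((mul_eq_zero.1 (congrArg Prod.snd hx)).resolve_left hne))
    (fun f => (hO _).2 ⟨f.1 - f.2, by show X ^ δ * f.1 - X ^ δ * f.2 = _; ring⟩)
    (fun s => by
      rw [hU _ s]
      exact Prod.ext (show -X ^ (δ - i) * X ^ i + X ^ δ = 0 by linear_combination -hpw) (show (0 : PowerSeries k) = 0 from rfl))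
    (fun α h => funext fun s => by
      have := h 1
      rw [Fin.sum_univ_one] at this
      rw [Subsingleton.elim s 0]
      simpa [U] using this)
    (fun h hh => by
      rw [Fin.sum_univ_two] at hh
      have h1 : (h 0).1 * X ^ i + (h 1).1 * X ^ δ = 0 := congrArg Prod.fst hh
      have h2 : (h 0).2 * X ^ i + (h 1).2 * 0 = 0 := congrArg Prod.snd hh
      refine ⟨fun _ => h 1, fun l => ?_⟩
      rw [Fin.sum_univ_one]
      fin_cases l
      · refine Prod.ext (show (h 1).1 * -X ^ (δ - i) = (h 0).1 from mul_right_cancel₀ (pow_ne_zero i X_ne_zero) ?_)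
          (show (h 1).2 * 0 = (h 0).2 from ?_)
        · linear_combination -h1 - (h 1).1 * hpw
        · rw [mul_zero]
          exact (mul_right_cancel₀ (pow_ne_zero i X_ne_zero) (by linear_combination -h2))
      · exact mul_one _)
  rw [e.length_eq]
  have hY : ∀ y, y ∈ homVals O U τ N ↔ X ^ (δ + (j - i)) ∣ (y 0).2 ∧ X ^ (δ + (δ - i)) ∣ ((y 0).1 - (y 0).2) := by
    intro y
    rw [mem_homVals]
    constructor
    · intro h
      obtain ⟨g, hg, hge⟩ := h (fun _ => (X ^ i, X ^ i)) (fun l => by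
        rw [Fin.sum_univ_one]
        fin_cases l
        · exact (hO _).2 ⟨-1, show X ^ i * -X ^ (δ - i) - X ^ i * 0 = _ by linear_combination -hpw⟩
        · exact (hO _).2 (show X ^ δ ∣ X ^ i * 1 - X ^ i * 1 by simp))
      obtain ⟨g', hg', hge'⟩ := h (fun _ => (X ^ δ, 0)) (fun l => by
        rw [Fin.sum_univ_one]
        fin_cases l
        · exact (hO _).2 ⟨-X ^ (δ - i), show X ^ δ * -X ^ (δ - i) - 0 * 0 = _ by ring⟩
        · exact (hO _).2 ⟨1, show X ^ δ * 1 - 0 * 1 = _ by ring⟩)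
      rw [Fin.sum_univ_one] at hge hge'
      have q1 : X ^ δ * g.1 = X ^ i * (y 0).1 := congrArg Prod.fst hge
      have q2 : X ^ δ * g.2 = X ^ i * (y 0).2 := congrArg Prod.snd hge
      have r1 : X ^ δ * g'.1 = X ^ δ * (y 0).1 := congrArg Prod.fst hge'
      have r2 : X ^ δ * g'.2 = 0 * (y 0).2 := congrArg Prod.snd hge'
      obtain ⟨⟨a, ha⟩, ⟨b, hb'⟩⟩ := (hN g).1 hg
      obtain ⟨-, ⟨b', hb''⟩⟩ := (hN g').1 hg'
      rw [mul_left_cancel₀ hne r1, (mul_eq_zero.1 (r2.trans (zero_mul _))).resolve_left hne, sub_zero] at hb''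
      refine ⟨?_, ⟨b, mul_left_cancel₀ (pow_ne_zero i X_ne_zero) ?_⟩⟩
      · have hd : X ^ (δ + j) ∣ (X : PowerSeries k) ^ i * (y 0).2 := ⟨a, by rw [← q2, ha, pow_add]; ring⟩
        have hd2 : X ^ δ ∣ (y 0).2 := by
          have q : X ^ δ * b' * X ^ i = X ^ δ * g.1 := by rw [q1, hb'']; ring
          have g1 : g.1 = X ^ i * b' := mul_left_cancel₀ hne (by linear_combination -q)
          refine ⟨b' - X ^ (δ - i) * b, mul_left_cancel₀ (pow_ne_zero i X_ne_zero) ?_⟩
          linear_combination -q2 - X ^ δ * hb' + X ^ δ * g1 + X ^ δ * b * hpw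
        by_cases hij : i ≤ j
        · rw [show δ + (j - i) = δ + j - i by omega]
          exact (mul_dvd_mul_iff_left (pow_ne_zero i X_ne_zero)).1 (by rwa [← pow_add, Nat.add_sub_cancel' (by omega)])
        · rwa [show δ + (j - i) = δ by omega]
      · rw [pow_add]
        linear_combination -q1 + q2 + X ^ δ * hb' - X ^ δ * b * hpw
    · rintro ⟨⟨a, ha⟩, ⟨b, hb'⟩⟩ α hα
      have hα1 : X ^ δ ∣ (α 0).1 - (α 0).2 := by
        have := (hO _).1 (hα 1)
        rw [Fin.sum_univ_one] at this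
        change X ^ δ ∣ (α 0).1 * 1 - (α 0).2 * 1 at this
        simpa using this
      have hα0 : X ^ δ ∣ (α 0).1 * X ^ (δ - i) := by
        have := (hO _).1 (hα 0)
        rw [Fin.sum_univ_one] at this
        change X ^ δ ∣ (α 0).1 * -X ^ (δ - i) - (α 0).2 * 0 at this
        simpa [mul_neg] using this
      obtain ⟨c, hc⟩ : X ^ i ∣ (α 0).1 := by
        obtain ⟨c, hc⟩ := hα0
        exact ⟨c, mul_right_cancel₀ (pow_ne_zero (δ - i) X_ne_zero) (by linear_combination hc - c * hpw)⟩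
      obtain ⟨d, hd⟩ := hα1
      have hα2 : (α 0).2 = X ^ i * c - X ^ δ * d := by linear_combination hc - hd
      let g₂ := (α 0).2 * (X ^ (j - i) * a)
      refine ⟨(g₂ + (X ^ δ * d * (X ^ (j - i) * a) + (α 0).1 * (X ^ (δ - i) * b)), g₂), (hN _).2 ⟨?_, ?_⟩, ?_⟩
      · show X ^ j ∣ g₂
        by_cases hij : i ≤ j
        · refine ⟨(c - X ^ (δ - i) * d) * a, ?_⟩
          show (α 0).2 * (X ^ (j - i) * a) = _
          rw [hα2, ← hpw, show (X : PowerSeries k) ^ j = X ^ (j - i) * X ^ i by rw [← pow_add, Nat.sub_add_cancel hij]]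
          ring
        · have : (α 0).2 = X ^ i * (c - X ^ (δ - i) * d) := by rw [hα2, ← hpw]; ring
          show X ^ j ∣ (α 0).2 * (X ^ (j - i) * a)
          rw [this]
          exact ((pow_dvd_pow X (by omega : j ≤ i)).mul_right _).mul_right _
      · show X ^ δ ∣ g₂ + (X ^ δ * d * (X ^ (j - i) * a) + (α 0).1 * (X ^ (δ - i) * b)) - g₂
        exact ⟨d * (X ^ (j - i) * a) + c * b, by rw [hc]; linear_combination c * b * hpw⟩
      · rw [Fin.sum_univ_one]
        refine Prod.ext (show X ^ δ * _ = (α 0).1 * (y 0).1 from ?_) (show X ^ δ * _ = (α 0).2 * (y 0).2 from ?_)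
        · have h1 : (y 0).1 = (y 0).2 + X ^ (δ + (δ - i)) * b := by linear_combination hb'
          rw [h1, ha, pow_add, pow_add]
          simp only [g₂]
          linear_combination -(X ^ δ * X ^ (j - i) * a) * hd
        · rw [ha, pow_add]; simp only [g₂]; ring
  have hW : ∀ y, y ∈ genVals O U τ N ↔ X ^ (δ + j) ∣ (y 0).2 ∧ X ^ (δ + (δ - i) + min i j) ∣ ((y 0).1 - (y 0).2) := by
    intro y
    rw [mem_genVals]
    constructor
    · rintro ⟨n, hn, he⟩
      obtain ⟨⟨a, ha⟩, ⟨b, hb'⟩⟩ := (hN _).1 (hn 1)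
      obtain ⟨⟨a', ha'⟩, ⟨b', hb''⟩⟩ := (hN _).1 (hn 0)
      have h0 := he 0
      rw [hU _ 0] at h0
      have y1 : (y 0).1 = X ^ δ * (-X ^ (δ - i) * (n 0).1 + (n 1).1) := congrArg Prod.fst h0
      have y2 : (y 0).2 = X ^ δ * (n 1).2 := congrArg Prod.snd h0
      refine ⟨⟨a, by rw [y2, ha, pow_add]; ring⟩, ?_⟩
      rw [show (y 0).1 - (y 0).2 = X ^ δ * (X ^ δ * b - X ^ (δ - i) * (X ^ j * a' + X ^ δ * b')) by
        linear_combination y1 - y2 + X ^ δ * hb' - X ^ δ * X ^ (δ - i) * (ha' + hb''), add_assoc, pow_add]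
      refine mul_dvd_mul_left _ (dvd_sub ((pow_dvd_pow X (by omega)).mul_right _) ?_)
      rw [pow_add]
      exact mul_dvd_mul_left _ (dvd_add ((pow_dvd_pow X (by omega)).mul_right _) ((pow_dvd_pow X (by omega)).mul_right _))
    · rintro ⟨⟨a, ha⟩, ⟨b, hb'⟩⟩
      by_cases hij : i ≤ j
      · refine ⟨![0, (X ^ j * a + X ^ δ * b, X ^ j * a)], fun l => ?_, fun s => ?_⟩
        · fin_cases l
          · exact N.zero_mem
          · exact (hN _).2 ⟨dvd_mul_right _ _, ⟨b, add_sub_cancel_left _ _⟩⟩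
        · rw [Subsingleton.elim s 0, hU _ 0]
          rw [show δ + (δ - i) + min i j = δ + δ by omega, pow_add] at hb'
          rw [pow_add] at ha
          exact Prod.ext (show (y 0).1 = X ^ δ * (-X ^ (δ - i) * 0 + (X ^ j * a + X ^ δ * b)) by linear_combination hb' + ha)
            (show (y 0).2 = X ^ δ * (X ^ j * a) by linear_combination ha)
      · refine ⟨![(-(X ^ j * b), -(X ^ j * b)), (X ^ j * a, X ^ j * a)], fun l => ?_, fun s => ?_⟩
        · fin_cases l
          · exact (hN _).2 ⟨(dvd_mul_right _ _).neg_right, by simp⟩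
          · exact (hN _).2 ⟨dvd_mul_right _ _, by simp⟩
        · rw [Subsingleton.elim s 0, hU _ 0]
          rw [show min i j = j by omega, pow_add, pow_add] at hb'
          rw [pow_add] at ha
          exact Prod.ext (show (y 0).1 = X ^ δ * (-X ^ (δ - i) * -(X ^ j * b) + X ^ j * a) by linear_combination hb' + ha)
            (show (y 0).2 = X ^ δ * (X ^ j * a) by linear_combination ha)
  let π : (Fin 1 → PowerSeries k × PowerSeries k) →ₗ[k] (Fin (min i j) ⊕ Fin (min i j) → k) :=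
    LinearMap.pi (Sum.elim
      (fun l => ((coeff (δ + (j - i) + (l : ℕ))).comp (LinearMap.snd k _ _)).comp (LinearMap.proj 0))
      (fun l => ((coeff (δ + (δ - i) + (l : ℕ))).comp (LinearMap.fst k _ _ - LinearMap.snd k _ _)).comp (LinearMap.proj 0)))
  have hπ1 : ∀ y l, π y (Sum.inl l) = coeff (δ + (j - i) + (l : ℕ)) (y 0).2 := fun _ _ => rfl
  have hπ2 : ∀ y l, π y (Sum.inr l) = coeff (δ + (δ - i) + (l : ℕ)) ((y 0).1 - (y 0).2) := fun _ _ => rfl
  rw [length_quotient_algebra (pair_residue hδ hO) _ _ π (fun v => ?_) (fun y hy => ?_)]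
  · rw [Module.finrank_pi, Fintype.card_sum, Fintype.card_fin, two_mul]
  · let p : PowerSeries k := X ^ (δ + (j - i)) * PowerSeries.mk fun m => if h : m < min i j then v (Sum.inl ⟨m, h⟩) else 0
    let d : PowerSeries k := X ^ (δ + (δ - i)) * PowerSeries.mk fun m => if h : m < min i j then v (Sum.inr ⟨m, h⟩) else 0
    refine ⟨fun _ => (p + d, p), (hY _).2 ⟨dvd_mul_right _ _, by simp only [add_sub_cancel_left]; exact dvd_mul_right _ _⟩, ?_⟩
    funext q
    cases q with
    | inl l => rw [hπ1, add_comm]; simp only [p]; rw [coeff_X_pow_mul, coeff_mk, dif_pos l.2]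
    | inr l => rw [hπ2, add_comm]; simp only [add_sub_cancel_left, d]; rw [coeff_X_pow_mul, coeff_mk, dif_pos l.2]
  · obtain ⟨h1, h2⟩ := (hY y).1 hy
    rw [hW, show δ + j = δ + (j - i) + min i j by omega, dvd_iff_window h1, dvd_iff_window h2]
    constructor
    · intro h
      exact ⟨fun l => (hπ1 y l).symm.trans (congrFun h _), fun l => (hπ2 y l).symm.trans (congrFun h _)⟩
    · intro h
      funext q
      cases q with
      | inl l => exact h.1 l
      | inr l => exact h.2 l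

end Groth.Agent.TFExt
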