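import Groth.Agent.TFExt.Basic

/-!
# First Ext groups between lattices generated inside an overring
-/

set_option autoImplicit false

universe u

open CategoryTheory CategoryTheory.Abelian

namespace Groth.Agent.TFExt

variable {k : Type u} [Field k] {R : Type u} [CommRing R] [Algebra k R] {A : Subalgebra k R} {r : ℕ}

/-- The combination of the relations. -/
noncomputable def comb (A : Subalgebra k R) (U : Fin r → Fin (r + 1) → R) : (Fin r → R) →ₗ[↥A] (Fin (r + 1) → R) where
  toFun α := fun j => ∑ s, α s * U s j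
  map_add' α β := by funext j; simp [add_mul, Finset.sum_add_distrib]
  map_smul' a α := by funext j; simp [Algebra.smul_def, Finset.mul_sum, mul_assoc]

/-- Pairing of vectors. -/
noncomputable def pair (A : Subalgebra k R) (α : Fin r → R) : (Fin r → R) →ₗ[↥A] R where
  toFun y := ∑ s, α s * y s
  map_add' y z := by simp [mul_add, Finset.sum_add_distrib]
  map_smul' a y := by
    simp only [Pi.smul_apply, Finset.smul_sum, RingHom.id_apply, Algebra.mul_smul_comm]

/-- The relations with coefficients in the subalgebra. -/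
noncomputable def rels (A : Subalgebra k R) (U : Fin r → Fin (r + 1) → R) : Submodule ↥A (Fin r → R) :=
  (Submodule.pi Set.univ fun _ => (1 : Submodule ↥A R)).comap (comb A U)

theorem mem_rels {U : Fin r → Fin (r + 1) → R} {α : Fin r → R} :
    α ∈ rels A U ↔ ∀ j, ∑ s, α s * U s j ∈ A := by
  simp only [rels, Submodule.mem_comap, Submodule.mem_pi, Set.mem_univ, forall_const, Submodule.mem_one]
  refine forall_congr' fun j => ⟨fun ⟨a, ha⟩ => ?_, fun h => ⟨⟨_, h⟩, rfl⟩⟩
  have : comb A U α j ∈ A := ha ▸ a.2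
  exact this

/-- The values of homomorphisms on the scaled basis. -/
noncomputable def homVals (A : Subalgebra k R) (U : Fin r → Fin (r + 1) → R) (τ : R) (N : Submodule ↥A R) :
    Submodule ↥A (Fin r → R) :=
  ⨅ α ∈ rels A U, (N.map (LinearMap.mulLeft ↥A τ)).comap (pair A α)

theorem mem_homVals {U : Fin r → Fin (r + 1) → R} {τ : R} {N : Submodule ↥A R} {y : Fin r → R} :
    y ∈ homVals A U τ N ↔ ∀ α : Fin r → R, (∀ j, ∑ s, α s * U s j ∈ A) → ∃ n ∈ N, τ * n = ∑ s, α s * y s := by
  simp only [homVals, Submodule.mem_iInf, Submodule.mem_comap, Submodule.mem_map, mem_rels,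
    LinearMap.mulLeft_apply]
  rfl

/-- The values coming from the generators. -/
noncomputable def genVals (A : Subalgebra k R) (U : Fin r → Fin (r + 1) → R) (τ : R) (N : Submodule ↥A R) :
    Submodule ↥A (Fin r → R) :=
  (Submodule.pi Set.univ fun _ => N).map
    ({ toFun := fun n s => τ * ∑ j, U s j * n j
       map_add' := fun m n => by funext s; simp [mul_add, Finset.sum_add_distrib]
       map_smul' := fun a n => by funext s; simp [Finset.mul_sum, Algebra.mul_smul_comm, Finset.smul_sum] } :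
      (Fin (r + 1) → R) →ₗ[↥A] (Fin r → R))

theorem mem_genVals {U : Fin r → Fin (r + 1) → R} {τ : R} {N : Submodule ↥A R} {y : Fin r → R} :
    y ∈ genVals A U τ N ↔ ∃ n : Fin (r + 1) → R, (∀ j, n j ∈ N) ∧ ∀ s, y s = τ * ∑ j, U s j * n j := by
  simp only [genVals, Submodule.mem_map, Submodule.mem_pi, Set.mem_univ, forall_const]
  refine exists_congr fun n => and_congr_right fun _ => ?_
  exact ⟨fun h s => h ▸ rfl, fun h => funext fun s => (h s).symm⟩

theorem genVals_le {U : Fin r → Fin (r + 1) → R} {τ : R} {N : Submodule ↥A R} :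
    genVals A U τ N ≤ homVals A U τ N := by
  intro y hy
  obtain ⟨n, hn, he⟩ := mem_genVals.1 hy
  refine mem_homVals.2 fun α hα => ⟨∑ j, (∑ s, α s * U s j) * n j, ?_, ?_⟩
  · exact Submodule.sum_mem _ fun j _ => N.smul_mem (⟨_, hα j⟩ : A) (hn j)
  · simp only [he, Finset.mul_sum, Finset.sum_mul]
    rw [Finset.sum_comm]
    exact Finset.sum_congr rfl fun s _ => Finset.sum_congr rfl fun j _ => by ring

attribute [local irreducible] rels homVals genVals

set_option maxHeartbeats 2000000 in
set_option synthInstance.maxHeartbeats 200000 in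
/-- The first Ext group between lattices as a quotient of two spaces of vectors. -/
theorem ext_one_equiv (N : Submodule ↥A R) (b : Fin (r + 1) → R) (U : Fin r → Fin (r + 1) → R) (τ : R)
    (hτ0 : ∀ x : R, τ * x = 0 → x = 0) (hτA : ∀ f : R, τ * f ∈ A)
    (hUb : ∀ s, ∑ j, U s j * b j = 0)
    (hinj : ∀ α : Fin r → R, (∀ j, ∑ s, α s * U s j = 0) → α = 0)
    (hker : ∀ h : Fin (r + 1) → R, ∑ j, h j * b j = 0 → ∃ α : Fin r → R, ∀ j, ∑ s, α s * U s j = h j) :
    Nonempty (Ext (ModuleCat.of ↥A ↥(Submodule.span ↥A (Set.range b))) (ModuleCat.of ↥A ↥N) 1 ≃ₗ[↥A]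
      ↥(homVals A U τ N) ⧸ (genVals A U τ N).comap (homVals A U τ N).subtype) := by
  classical
  let f : ↥(rels A U) →ₗ[↥A] (Fin (r + 1) → ↥A) :=
    { toFun := fun α j => ⟨∑ s, (α : Fin r → R) s * U s j, mem_rels.1 α.2 j⟩
      map_add' := fun α β => funext fun j => Subtype.ext (congrFun (map_add (comb A U) (α : Fin r → R) β) j)
      map_smul' := fun a α => funext fun j => Subtype.ext (congrFun (map_smul (comb A U) a (α : Fin r → R)) j) }
  let g : (Fin (r + 1) → ↥A) →ₗ[↥A] ↥(Submodule.span ↥A (Set.range b)) :=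
    (Fintype.linearCombination ↥A b).codRestrict _ fun x => Fintype.range_linearCombination ↥A b ▸ ⟨x, rfl⟩
  have hgv : ∀ x, (g x : R) = ∑ j, (x j : R) * b j := fun x => by
    simp [g, Fintype.linearCombination_apply, Algebra.smul_def]
  have hf : Function.Injective f := by
    intro α β h
    refine Subtype.ext (sub_eq_zero.1 (hinj _ fun j => ?_))
    have hj := congrArg Subtype.val (congrFun h j)
    simp only [f, LinearMap.coe_mk, AddHom.coe_mk] at hj
    simp [sub_mul, Finset.sum_sub_distrib, hj]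
  have hg : Function.Surjective g := by
    rintro ⟨x, hx⟩
    rw [← Fintype.range_linearCombination ↥A b] at hx
    obtain ⟨c, hc⟩ := hx
    exact ⟨c, Subtype.ext hc⟩
  have hfg : Function.Exact f g := by
    intro x
    constructor
    · intro h
      have h0 : ∑ j, (x j : R) * b j = 0 := by rw [← hgv, h]; rfl
      obtain ⟨α, hα⟩ := hker _ h0
      exact ⟨⟨α, mem_rels.2 fun j => by rw [hα]; exact (x j).2⟩, funext fun j => Subtype.ext (hα j)⟩
    · rintro ⟨α, rfl⟩
      refine Subtype.ext ?_
      rw [hgv]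
      simp only [f, LinearMap.coe_mk, AddHom.coe_mk, Finset.sum_mul, ZeroMemClass.coe_zero]
      rw [Finset.sum_comm]
      refine Finset.sum_eq_zero fun s _ => ?_
      rw [← mul_zero ((α : Fin r → R) s), ← hUb s, Finset.mul_sum]
      exact Finset.sum_congr rfl fun j _ => mul_assoc _ _ _
  obtain ⟨e⟩ := ext_one_of_presentation (N := ↥N) f g hf hg hfg
  have hsg : ∀ (s : Fin r) (c : R), Pi.single s (τ * c) ∈ rels A U := fun s c => mem_rels.2 fun j => by
    rw [Finset.sum_eq_single s (fun l _ hl => by rw [Pi.single_eq_of_ne hl, zero_mul])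
      (fun h => absurd (Finset.mem_univ s) h), Pi.single_eq_same, mul_assoc]
    exact hτA _
  let v : Fin r → R → ↥(rels A U) := fun s c => ⟨_, hsg s c⟩
  let τA : ↥A := ⟨τ, by simpa using hτA 1⟩
  let Φ : (↥(rels A U) →ₗ[↥A] ↥N) →ₗ[↥A] (Fin r → R) :=
    { toFun := fun φ s => (φ (v s 1) : R)
      map_add' := fun _ _ => rfl
      map_smul' := fun _ _ => rfl }
  have hscale : ∀ (φ : ↥(rels A U) →ₗ[↥A] ↥N) (s : Fin r) (c : R), (φ (v s c) : R) = c * (φ (v s 1) : R) := by
    intro φ s c
    have h1 : τA • v s c = (⟨τ * c, hτA c⟩ : ↥A) • v s 1 := by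
      refine Subtype.ext (funext fun l => ?_)
      rcases eq_or_ne l s with rfl | hl
      · simp [v, τA, Algebra.smul_def]; ring
      · simp [v, Pi.single_eq_of_ne hl]
    have h2 := congrArg (fun x => (φ x : R)) h1
    simp only [map_smul, Submodule.coe_smul, Algebra.smul_def] at h2
    refine sub_eq_zero.1 (hτ0 _ ?_)
    change τ * (φ (v s c) : R) = τ * c * (φ (v s 1) : R) at h2
    linear_combination h2
  have hphi : ∀ (φ : ↥(rels A U) →ₗ[↥A] ↥N) (α : ↥(rels A U)),
      τ * (φ α : R) = ∑ s, (α : Fin r → R) s * (φ (v s 1) : R) := by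
    intro φ α
    have h1 : τA • α = ∑ s, v s ((α : Fin r → R) s) := by
      refine Subtype.ext (funext fun l => ?_)
      rw [Submodule.coe_sum, Finset.sum_apply, Finset.sum_eq_single l (fun s _ hs => by simp [v, Pi.single_eq_of_ne' hs])
        (fun h => absurd (Finset.mem_univ l) h)]
      simp [v, τA, Algebra.smul_def]
    generalize hw : τA • α = w at h1
    have h2 : (φ w : R) = ((φ (∑ s, v s ((α : Fin r → R) s)) : ↥N) : R) := congrArg (fun x => ((φ x : ↥N) : R)) h1
    rw [← hw, LinearMap.map_smul, Submodule.coe_smul, map_sum, Submodule.coe_sum] at h2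
    exact Eq.trans (Algebra.smul_def τA ((φ α : ↥N) : R)).symm (h2.trans (Finset.sum_congr rfl fun s _ => hscale φ s _))
  have hΦinj : Function.Injective Φ := by
    intro φ ψ h
    refine LinearMap.ext fun α => Subtype.ext (sub_eq_zero.1 (hτ0 _ ?_))
    rw [mul_sub, hphi, hphi, sub_eq_zero]
    exact Finset.sum_congr rfl fun s _ => congrArg _ (congrFun h s)
  have hrange : LinearMap.range Φ = homVals A U τ N := by
    refine le_antisymm ?_ fun y hy => ?_
    · rintro _ ⟨φ, rfl⟩
      exact mem_homVals.2 fun α hα => ⟨_, (φ ⟨α, mem_rels.2 hα⟩).2, hphi φ ⟨α, mem_rels.2 hα⟩⟩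
    · choose F hF using mem_homVals.1 hy
      let φ : ↥(rels A U) →ₗ[↥A] ↥N :=
        { toFun := fun α => ⟨F _ (mem_rels.1 α.2), (hF _ _).1⟩
          map_add' := fun α β => Subtype.ext (sub_eq_zero.1 (hτ0 _ (by
            simp only [Submodule.coe_add, mul_sub, mul_add, (hF _ _).2]
            simp [add_mul, Finset.sum_add_distrib])))
          map_smul' := fun a α => Subtype.ext (sub_eq_zero.1 (hτ0 _ (by
            simp only [RingHom.id_apply, Submodule.coe_smul, mul_sub, Algebra.mul_smul_comm, (hF _ _).2]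
            simp [Finset.smul_sum]))) }
      refine ⟨φ, funext fun s => sub_eq_zero.1 (hτ0 _ ?_)⟩
      show τ * (F _ _ - y s) = 0
      rw [mul_sub, (hF _ _).2, Finset.sum_eq_single s (fun l _ hl => by simp [v, Pi.single_eq_of_ne hl])
        (fun h => absurd (Finset.mem_univ s) h)]
      simp [v]
  let Ψ : (↥(rels A U) →ₗ[↥A] ↥N) ≃ₗ[↥A] ↥(homVals A U τ N) :=
    (LinearEquiv.ofInjective Φ hΦinj).trans (LinearEquiv.ofEq _ _ hrange)
  refine ⟨e.trans (Submodule.Quotient.equiv _ _ Ψ ?_)⟩
  have hval : ∀ (ψ : (Fin (r + 1) → ↥A) →ₗ[↥A] ↥N) (α : ↥(rels A U)),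
      (ψ (f α) : R) = ∑ j, (∑ s, (α : Fin r → R) s * U s j) * (ψ (Pi.single j 1) : R) := by
    intro ψ α
    rw [show f α = ∑ j, (f α j) • (Pi.single j (1 : ↥A) : Fin (r + 1) → ↥A) by
      funext l; simp [Finset.sum_apply, Pi.single_apply]]
    rw [map_sum, Submodule.coe_sum]
    refine Finset.sum_congr rfl fun j _ => ?_
    rw [LinearMap.map_smul, Submodule.coe_smul, Algebra.smul_def]
    rfl
  ext y
  simp only [Submodule.mem_map, LinearMap.mem_range, Submodule.mem_comap]
  constructor
  · rintro ⟨_, ⟨ψ, rfl⟩, rfl⟩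
    refine mem_genVals.2 ⟨fun j => (ψ (Pi.single j 1) : R), fun j => (ψ _).2, fun s => ?_⟩
    show (ψ (f (v s 1)) : R) = _
    rw [hval, Finset.mul_sum]
    refine Finset.sum_congr rfl fun j _ => ?_
    rw [Finset.sum_eq_single s (fun l _ hl => by simp [v, Pi.single_eq_of_ne hl])
      (fun h => absurd (Finset.mem_univ s) h)]
    simp [v, mul_assoc]
  · intro hy
    obtain ⟨n, hn, he⟩ := mem_genVals.1 hy
    refine ⟨_, ⟨Fintype.linearCombination ↥A (fun j => (⟨n j, hn j⟩ : ↥N)), rfl⟩, ?_⟩
    refine Subtype.ext (funext fun s => ?_)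
    show ((Fintype.linearCombination ↥A (fun j => (⟨n j, hn j⟩ : ↥N)) (f (v s 1)) : ↥N) : R) = (y : Fin r → R) s
    refine Eq.trans ?_ (he s).symm
    rw [hval]
    simp only [Fintype.linearCombination_apply_single, one_smul, Finset.mul_sum]
    refine Finset.sum_congr rfl fun j _ => ?_
    rw [Finset.sum_eq_single s (fun l _ hl => by simp [v, Pi.single_eq_of_ne hl])
      (fun h => absurd (Finset.mem_univ s) h)]
    simp [v, mul_assoc]

end Groth.Agent.TFExt
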