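import Groth.Agent.TFExt.Engine

/-!
# Monomial subalgebras and monomial submodules of power series
-/

set_option autoImplicit false

universe u

open PowerSeries CategoryTheory CategoryTheory.Abelian

namespace Groth.Agent.TFExt

/-- The ring structure of a subalgebra of power series, with its expected semiring. -/
noncomputable scoped instance (priority := high) subCommRing (k : Type u) [Field k]
    (A : Subalgebra k (PowerSeries k)) : CommRing ↥A := A.toCommRing

variable {k : Type u} [Field k]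

/-- The exponents of a series are in the set. -/
def Supp (S : Set ℕ) (f : PowerSeries k) : Prop := ∀ m, coeff m f ≠ 0 → m ∈ S

theorem supp_add {S : Set ℕ} {f g : PowerSeries k} (hf : Supp S f) (hg : Supp S g) : Supp S (f + g) := by
  intro m hm
  by_cases h : coeff m f = 0
  · exact hg m (by simpa [h] using hm)
  · exact hf m h

theorem supp_zero {S : Set ℕ} : Supp S (0 : PowerSeries k) := fun m hm => absurd (map_zero _) hm

theorem supp_neg {S : Set ℕ} {f : PowerSeries k} (hf : Supp S f) : Supp S (-f) := fun m hm => hf m (by simpa using hm)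

theorem supp_mul {S T V : Set ℕ} {f g : PowerSeries k} (hf : Supp S f) (hg : Supp T g)
    (h : ∀ p ∈ S, ∀ q ∈ T, p + q ∈ V) : Supp V (f * g) := by
  intro m hm
  rw [coeff_mul] at hm
  obtain ⟨pq, hpq, hne⟩ := Finset.exists_ne_zero_of_sum_ne_zero hm
  have hpq' : pq.1 + pq.2 = m := Finset.HasAntidiagonal.mem_antidiagonal.1 hpq
  exact hpq' ▸ h _ (hf _ (left_ne_zero_of_mul hne)) _ (hg _ (right_ne_zero_of_mul hne))

theorem supp_X_pow_mul {S : Set ℕ} {f : PowerSeries k} (c : ℕ) :
    Supp S (X ^ c * f) ↔ Supp {m | c + m ∈ S} f := by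
  constructor
  · intro h m hm
    refine h (c + m) ?_
    rw [add_comm, coeff_X_pow_mul]
    exact hm
  · intro h m hm
    rw [coeff_X_pow_mul'] at hm
    split_ifs at hm with hle
    · have := h _ hm
      simpa [Nat.add_sub_cancel' hle] using this
    · exact absurd rfl hm

theorem supp_X_pow {S : Set ℕ} {c : ℕ} (hc : c ∈ S) : Supp S (X ^ c : PowerSeries k) := fun m hm => by
  rw [coeff_X_pow] at hm
  split_ifs at hm with h
  · exact h ▸ hc
  · exact absurd rfl hm

open Classical in
/-- The part of a series with exponents in the set. -/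
noncomputable def part (S : Set ℕ) (f : PowerSeries k) : PowerSeries k :=
  PowerSeries.mk fun m => if m ∈ S then coeff m f else 0

theorem coeff_part (S : Set ℕ) [DecidablePred (· ∈ S)] (f : PowerSeries k) (m : ℕ) :
    coeff m (part S f) = if m ∈ S then coeff m f else 0 := by
  classical
  rw [part, coeff_mk]
  congr

theorem supp_part (S : Set ℕ) (f : PowerSeries k) : Supp S (part S f) := fun m hm => by
  classical
  rw [coeff_part] at hm
  split_ifs at hm with h
  · exact h
  · exact absurd rfl hm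

theorem supp_sub_part {S T : Set ℕ} {f : PowerSeries k} (hf : Supp (S ∪ T) f) : Supp T (f - part S f) := by
  classical
  intro m hm
  rw [map_sub, coeff_part] at hm
  split_ifs at hm with h
  · simp at hm
  · exact (hf m (by simpa using hm)).resolve_left h

theorem exists_eq_X_pow_mul {S : Set ℕ} {f : PowerSeries k} {c : ℕ} (hf : Supp ((c + ·) '' S) f) :
    ∃ g, Supp S g ∧ f = X ^ c * g := by
  refine ⟨PowerSeries.mk fun m => coeff (m + c) f, fun m hm => ?_, ?_⟩
  · rw [coeff_mk] at hm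
    obtain ⟨t, ht, he⟩ := hf _ hm
    have : t = m := by simp only at he; omega
    exact this ▸ ht
  · ext m
    rw [coeff_X_pow_mul']
    split_ifs with hle
    · rw [coeff_mk, Nat.sub_add_cancel hle]
    · by_contra hne
      obtain ⟨t, -, he⟩ := hf _ hne
      simp only at he
      omega

theorem supp_image_X_pow_mul {S : Set ℕ} {f : PowerSeries k} {c : ℕ} (hf : Supp S f) :
    Supp ((c + ·) '' S) (X ^ c * f) :=
  (supp_X_pow_mul c).2 fun m hm => ⟨m, hf m hm, rfl⟩

variable {A : Subalgebra k (PowerSeries k)} {Γ : Set ℕ}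

theorem maximal_residue (hA : ∀ f : PowerSeries k, f ∈ A ↔ Supp Γ f) {c : ℕ} (hc : ∀ m, c ≤ m → m ∈ Γ)
    (P : Ideal ↥A) (hP : P.IsMaximal) (a : ↥A) : ∃ c : k, a - algebraMap k ↥A c ∈ P := by
  refine ⟨constantCoeff (a : PowerSeries k), ?_⟩
  by_contra hg
  obtain ⟨y, i, hi, hyi⟩ := hP.exists_inv hg
  have hw : (i : PowerSeries k) =
      1 - (y : PowerSeries k) * ((a : PowerSeries k) - algebraMap k (PowerSeries k) (constantCoeff (a : PowerSeries k))) := by
    have := congrArg (fun x : ↥A => (x : PowerSeries k)) hyi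
    simp only [Subalgebra.coe_add, Subalgebra.coe_mul, Subalgebra.coe_sub, Subalgebra.coe_one] at this
    rw [← this]
    exact (add_sub_cancel_left _ _).symm
  set z := (y : PowerSeries k) * ((a : PowerSeries k) - algebraMap k (PowerSeries k) (constantCoeff (a : PowerSeries k))) with hz
  have hzA : z ∈ A := A.mul_mem y.2 (A.sub_mem a.2 (A.algebraMap_mem _))
  have hz0 : constantCoeff z = 0 := by simp [hz, ← PowerSeries.C_eq_algebraMap]
  obtain ⟨v, hv⟩ : IsUnit (1 - z) := isUnit_iff_constantCoeff.2 (by simp [hz0])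
  have hinv : ((v⁻¹ : (PowerSeries k)ˣ) : PowerSeries k) = ∑ m ∈ Finset.range c, z ^ m + z ^ c * (v⁻¹ : (PowerSeries k)ˣ) := by
    have h1 := geom_sum_mul_neg z c
    rw [← hv] at h1
    have h2 := congrArg (· * ((v⁻¹ : (PowerSeries k)ˣ) : PowerSeries k)) h1
    simp only [mul_assoc, Units.mul_inv, mul_one, sub_mul, one_mul] at h2
    rw [h2]; ring
  have hinvA : ((v⁻¹ : (PowerSeries k)ˣ) : PowerSeries k) ∈ A := by
    rw [hinv]
    refine A.add_mem (A.sum_mem fun m _ => pow_mem hzA m) ((hA _).2 fun m hm => hc m ?_)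
    obtain ⟨w, hw'⟩ := X_dvd_iff.2 hz0
    rw [hw', mul_pow, mul_assoc, coeff_X_pow_mul'] at hm
    split_ifs at hm with h
    · exact h
    · exact absurd rfl hm
  refine hP.ne_top (Ideal.eq_top_of_isUnit_mem _ hi (IsUnit.of_mul_eq_one (⟨_, hinvA⟩ : ↥A) (Subtype.ext ?_)))
  simp only [Subalgebra.coe_mul, Subalgebra.coe_one, hw, ← hv, Units.mul_inv]

theorem span_monomials (hA : ∀ f : PowerSeries k, f ∈ A ↔ Supp Γ f) (S : Finset ℕ) (f : PowerSeries k) :
    f ∈ Submodule.span ↥A ((fun a : ℕ => (X : PowerSeries k) ^ a) '' ↑S) ↔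
      Supp (⋃ a ∈ S, (a + ·) '' Γ) f := by
  classical
  induction S using Finset.induction_on generalizing f with
  | empty =>
    simp only [Finset.coe_empty, Set.image_empty, Submodule.span_empty, Submodule.mem_bot, Finset.notMem_empty,
      Set.iUnion_of_empty, Set.iUnion_empty]
    exact ⟨fun h => h ▸ supp_zero, fun h => PowerSeries.ext fun m => by by_contra hne; exact h m hne⟩
  | insert a S _ ih =>
    rw [Finset.coe_insert, Set.image_insert_eq, Submodule.mem_span_insert, Finset.set_biUnion_insert]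
    constructor
    · rintro ⟨g, z, hz, rfl⟩
      refine supp_add (fun m hm => Or.inl ?_) (fun m hm => Or.inr ((ih z).1 hz m hm))
      rw [Algebra.smul_def, mul_comm] at hm
      exact supp_image_X_pow_mul ((hA _).1 g.2) m hm
    · intro h
      obtain ⟨g, hg, he⟩ := exists_eq_X_pow_mul (supp_part ((a + ·) '' Γ) f)
      refine ⟨⟨g, (hA g).2 hg⟩, f - part _ f, (ih _).2 (supp_sub_part h), ?_⟩
      rw [Algebra.smul_def]
      show f = g * X ^ a + _
      rw [he, mul_comm g]; ring

/-- A length from a surjective map to coordinates. -/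
theorem length_quotient (hA : ∀ (P : Ideal ↥A), P.IsMaximal → ∀ a, ∃ c : k, a - algebraMap k ↥A c ∈ P)
    {E : Type u} [AddCommGroup E] [Module ↥A E] [Module k E] [IsScalarTower k ↥A E] (Y W : Submodule ↥A E)
    {V : Type u} [AddCommGroup V] [Module k V] [FiniteDimensional k V] (π : E →ₗ[k] V)
    (hsurj : ∀ v, ∃ y ∈ Y, π y = v) (hker : ∀ y ∈ Y, (π y = 0 ↔ y ∈ W)) :
    Module.length ↥A (↥Y ⧸ W.comap Y.subtype) = (Module.finrank k V : ℕ∞) := by
  let π' : ↥Y →ₗ[k] V := π.comp (Y.subtype.restrictScalars k)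
  have hk : LinearMap.ker π' = (W.comap Y.subtype).restrictScalars k := by
    ext y
    exact hker y.1 y.2
  have hs : Function.Surjective π' := fun v => by obtain ⟨y, hy, he⟩ := hsurj v; exact ⟨⟨y, hy⟩, he⟩
  let e : (↥Y ⧸ W.comap Y.subtype) ≃ₗ[k] V :=
    (Submodule.Quotient.restrictScalarsEquiv k (W.comap Y.subtype)).symm.trans
      ((Submodule.quotEquivOfEq _ _ hk.symm).trans (π'.quotKerEquivOfSurjective hs))
  haveI : FiniteDimensional k (↥Y ⧸ W.comap Y.subtype) := Module.Finite.equiv e.symm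
  rw [length_eq_finrank hA _, e.finrank_eq]

/-- The length of a quotient of spaces of monomial vectors. -/
theorem length_monomial (hA : ∀ (P : Ideal ↥A), P.IsMaximal → ∀ a, ∃ c : k, a - algebraMap k ↥A c ∈ P)
    {r : ℕ} (Y W : Submodule ↥A (Fin r → PowerSeries k)) (S T : Fin r → Set ℕ) (D : Fin r → Finset ℕ)
    (hY : ∀ y, y ∈ Y ↔ ∀ s, Supp (S s) (y s)) (hW : ∀ y, y ∈ W ↔ ∀ s, Supp (T s) (y s))
    (hTS : ∀ s, T s ⊆ S s) (hD : ∀ s m, m ∈ D s ↔ m ∈ S s ∧ m ∉ T s) :
    Module.length ↥A (↥Y ⧸ W.comap Y.subtype) = ((∑ s, (D s).card : ℕ) : ℕ∞) := by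
  classical
  let π : (Fin r → PowerSeries k) →ₗ[k] (((s : Fin r) × ↥(D s)) → k) :=
    LinearMap.pi fun p => (coeff (p.2 : ℕ)).comp (LinearMap.proj p.1)
  have hπ : ∀ y p, π y p = coeff (p.2 : ℕ) (y p.1) := fun y p => rfl
  rw [length_quotient hA Y W π (fun v => ?_) (fun y hy => ?_)]
  · rw [Module.finrank_pi, Fintype.card_sigma]
    simp
  · refine ⟨fun s => PowerSeries.mk fun m => if h : m ∈ D s then v ⟨s, m, h⟩ else 0, (hY _).2 fun s m hm => ?_, ?_⟩
    · rw [coeff_mk] at hm
      split_ifs at hm with h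
      · exact ((hD s m).1 h).1
      · exact absurd rfl hm
    · funext p
      rw [hπ, coeff_mk, dif_pos p.2.2]
  · rw [hW]
    constructor
    · intro h s m hm
      by_contra hT
      exact hm (congrFun h ⟨s, m, (hD s m).2 ⟨(hY y).1 hy s m hm, hT⟩⟩)
    · intro h
      funext p
      rw [hπ, Pi.zero_apply]
      by_contra hne
      exact ((hD _ _).1 p.2.2).2 (h p.1 _ hne)

/-- The first Ext group from a module with two monomial generators. -/
theorem ext_two (hA : ∀ f : PowerSeries k, f ∈ A ↔ Supp Γ f) (c : ℕ) (hc : ∀ m, c ≤ m → m ∈ Γ) (a : ℕ)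
    (T : Set ℕ) (N : Submodule ↥A (PowerSeries k)) (hN : ∀ f, f ∈ N ↔ Supp T f) (D : Finset ℕ)
    (hD : ∀ e, e ∈ D ↔ (∀ j ∈ Γ, j + a ∈ Γ → e + j ∈ (c + ·) '' T) ∧
      e ∉ (c + ·) '' T ∧ e ∉ ((c + a) + ·) '' T) :
    Module.length ↥A (Abelian.Ext (ModuleCat.of ↥A ↥(Submodule.span ↥A ({1, X ^ a} : Set (PowerSeries k))))
      (ModuleCat.of ↥A ↥N) 1) = (D.card : ℕ∞) := by
  have hb : ({1, X ^ a} : Set (PowerSeries k)) = Set.range ![(1 : PowerSeries k), X ^ a] := by
    rw [Matrix.range_cons, Matrix.range_cons, Matrix.range_empty, Set.union_empty, Set.union_singleton, Set.pair_comm]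
  rw [hb]
  let U : Fin 1 → Fin 2 → PowerSeries k := fun _ => ![-(X ^ a), 1]
  obtain ⟨e⟩ := ext_one_equiv N ![(1 : PowerSeries k), X ^ a] U (X ^ c)
    (fun x hx => (mul_eq_zero.1 hx).resolve_left (pow_ne_zero _ X_ne_zero))
    (fun f => (hA _).2 ((supp_X_pow_mul c).2 fun m _ => hc _ (Nat.le_add_right c m)))
    (fun s => by simp [U, Fin.sum_univ_two])
    (fun α h => by
      have := h 1
      simp [U] at this
      funext s
      rw [Subsingleton.elim s 0]
      exact this)
    (fun h hh => by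
      refine ⟨fun _ => h 1, fun j => ?_⟩
      simp [Fin.sum_univ_two] at hh
      fin_cases j
      · simp [U]; linear_combination -hh
      · simp [U])
  rw [e.length_eq]
  have hY : ∀ y : Fin 1 → PowerSeries k, y ∈ homVals A U (X ^ c) N ↔
      ∀ s, Supp {e | ∀ j ∈ Γ, j + a ∈ Γ → e + j ∈ (c + ·) '' T} (y s) := by
    intro y
    rw [mem_homVals]
    constructor
    · intro h s m hm j hj hja
      rw [Subsingleton.elim s 0] at hm
      obtain ⟨n, hn, he⟩ := h (fun _ => X ^ j) (fun l => by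
        fin_cases l
        · simp [U]
          rw [← pow_add]
          exact (hA _).2 (supp_X_pow hja)
        · simp [U]
          exact (hA _).2 (supp_X_pow hj))
      rw [Fin.sum_univ_one] at he
      have := supp_image_X_pow_mul (c := c) ((hN n).1 hn) (m + j) (by rw [he, coeff_X_pow_mul]; exact hm)
      exact this
    · intro h α hα
      have h0 : Supp Γ (α 0) := (hA _).1 (by simpa [U] using hα 1)
      have h1 : Supp Γ (α 0 * X ^ a) := (hA _).1 (by simpa [U] using hα 0)
      have h2 : Supp {j | j ∈ Γ ∧ j + a ∈ Γ} (α 0) := fun m hm => ⟨h0 m hm, h1 (m + a) (by rwa [coeff_mul_X_pow])⟩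
      obtain ⟨g, hg, he⟩ := exists_eq_X_pow_mul (supp_mul (V := (c + ·) '' T) h2 (h 0)
        fun p hp q hq => by rw [add_comm]; exact hq p hp.1 hp.2)
      exact ⟨g, (hN g).2 hg, by rw [Fin.sum_univ_one]; exact he.symm⟩
  have hW : ∀ y : Fin 1 → PowerSeries k, y ∈ genVals A U (X ^ c) N ↔
      ∀ s, Supp ((c + ·) '' T ∪ ((c + a) + ·) '' T) (y s) := by
    intro y
    rw [mem_genVals]
    constructor
    · rintro ⟨n, hn, he⟩ s
      rw [he s]
      rw [show ∑ j, U s j * n j = -(X ^ a) * n 0 + 1 * n 1 from Fin.sum_univ_two _, one_mul]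
      rw [mul_add, ← mul_assoc, mul_neg, ← pow_add, neg_mul]
      exact supp_add (fun m hm => Or.inr (supp_neg (supp_image_X_pow_mul ((hN _).1 (hn 0))) m hm))
        (fun m hm => Or.inl (supp_image_X_pow_mul ((hN _).1 (hn 1)) m hm))
    · intro h
      obtain ⟨g₁, hg₁, e₁⟩ := exists_eq_X_pow_mul (supp_part ((c + ·) '' T) (y 0))
      obtain ⟨g₂, hg₂, e₂⟩ := exists_eq_X_pow_mul (supp_sub_part (h 0))
      refine ⟨![-g₂, g₁], fun j => ?_, fun s => ?_⟩
      · fin_cases j
        · exact (hN _).2 (supp_neg hg₂)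
        · exact (hN _).2 hg₁
      · rw [Subsingleton.elim s 0]
        rw [show ∑ j, U 0 j * ![-g₂, g₁] j = -(X ^ a) * -g₂ + 1 * g₁ from Fin.sum_univ_two _]
        rw [pow_add] at e₂
        linear_combination e₂ + e₁
  rw [length_monomial (maximal_residue hA hc) _ _ _ _ (fun _ => D) hY hW ?_ (fun s m => by
    rw [hD]; simp [not_or])]
  · simp
  · intro s m hm j hj hja
    have hT : ∀ p ∈ Γ, ∀ q ∈ T, p + q ∈ T := fun p hp q hq => by
      have := (hN _).1 (N.smul_mem (⟨X ^ p, (hA _).2 (supp_X_pow hp)⟩ : ↥A) ((hN _).2 (supp_X_pow hq)))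
      refine this (p + q) ?_
      rw [Algebra.smul_def]
      show coeff (p + q) (X ^ p * X ^ q : PowerSeries k) ≠ 0
      rw [← pow_add, coeff_X_pow_self]
      exact one_ne_zero
    rcases hm with ⟨t, ht, rfl⟩ | ⟨t, ht, rfl⟩
    · exact ⟨j + t, hT j hj t ht, by simp only; omega⟩
    · exact ⟨(j + a) + t, hT _ hja t ht, by simp only; omega⟩

end Groth.Agent.TFExt
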