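import Groth.Agent.TFExt.Monomial

/-!
# Rank one modules over the singularities of types A and E₆
-/

set_option autoImplicit false

universe u

open PowerSeries CategoryTheory CategoryTheory.Abelian

namespace Groth.Agent.TFExt

variable {k : Type u} [Field k] {A : Subalgebra k (PowerSeries k)}

theorem mem_closure_even {δ m : ℕ} :
    m ∈ AddSubmonoid.closure ({2, 2 * δ + 1} : Set ℕ) ↔ (m % 2 = 0 ∨ 2 * δ + 1 ≤ m) := by
  constructor
  · intro h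
    induction h using AddSubmonoid.closure_induction with
    | mem x hx => rcases hx with rfl | rfl <;> omega
    | zero => omega
    | add x y _ _ hx hy => omega
  · intro h
    have h2 : ∀ a, 2 * a ∈ AddSubmonoid.closure ({2, 2 * δ + 1} : Set ℕ) := fun a => by
      have h := (AddSubmonoid.closure ({2, 2 * δ + 1} : Set ℕ)).nsmul_mem (x := 2)
        (AddSubmonoid.subset_closure (Set.mem_insert _ _)) a
      rwa [smul_eq_mul, mul_comm a] at h
    by_cases hm : m % 2 = 0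
    · rw [show m = 2 * (m / 2) by omega]; exact h2 _
    · rw [show m = (2 * δ + 1) + 2 * ((m - (2 * δ + 1)) / 2) by omega]
      exact add_mem (AddSubmonoid.subset_closure (Set.mem_insert_of_mem _ rfl)) (h2 _)

theorem mem_closure_three_four {m : ℕ} :
    m ∈ AddSubmonoid.closure ({3, 4} : Set ℕ) ↔ (m = 0 ∨ m = 3 ∨ m = 4 ∨ 6 ≤ m) := by
  constructor
  · intro h
    induction h using AddSubmonoid.closure_induction with
    | mem x hx => rcases hx with rfl | rfl <;> omega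
    | zero => omega
    | add x y _ _ hx hy => omega
  · intro h
    have h3 : ∀ a b, 3 * a + 4 * b ∈ AddSubmonoid.closure ({3, 4} : Set ℕ) := fun a b => by
      have h := (AddSubmonoid.closure ({3, 4} : Set ℕ)).add_mem
        ((AddSubmonoid.closure ({3, 4} : Set ℕ)).nsmul_mem (x := 3)
          (AddSubmonoid.subset_closure (Set.mem_insert _ _)) a)
        ((AddSubmonoid.closure ({3, 4} : Set ℕ)).nsmul_mem (x := 4)
          (AddSubmonoid.subset_closure (Set.mem_insert_of_mem _ rfl)) b)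
      rwa [smul_eq_mul, smul_eq_mul, mul_comm a, mul_comm b] at h
    obtain ⟨a, b, rfl⟩ : ∃ a b, m = 3 * a + 4 * b := by
      rcases h with rfl | rfl | rfl | h
      · exact ⟨0, 0, rfl⟩
      · exact ⟨1, 0, rfl⟩
      · exact ⟨0, 1, rfl⟩
      · have : m % 3 = 0 ∨ m % 3 = 1 ∨ m % 3 = 2 := by omega
        rcases this with h' | h' | h'
        · exact ⟨m / 3, 0, by omega⟩
        · exact ⟨(m - 4) / 3, 1, by omega⟩
        · exact ⟨(m - 8) / 3, 2, by omega⟩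
    exact h3 a b

theorem mem_span_pair {Γ : Set ℕ} (hA : ∀ f : PowerSeries k, f ∈ A ↔ Supp Γ f) (b : ℕ) {T : Set ℕ}
    (hT : ∀ m, m ∈ T ↔ m ∈ Γ ∨ (b ≤ m ∧ m - b ∈ Γ)) (f : PowerSeries k) :
    f ∈ Submodule.span ↥A ({1, X ^ b} : Set (PowerSeries k)) ↔ Supp T f := by
  classical
  have e : ({1, X ^ b} : Set (PowerSeries k)) = (fun a : ℕ => (X : PowerSeries k) ^ a) '' ↑({0, b} : Finset ℕ) := by
    rw [Finset.coe_insert, Finset.coe_singleton, Set.image_pair, pow_zero]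
  rw [e, span_monomials hA]
  refine forall_congr' fun m => imp_congr_right fun _ => ?_
  rw [hT]
  simp only [Finset.set_biUnion_insert, Finset.set_biUnion_singleton, Set.mem_union, Set.mem_image, zero_add]
  refine or_congr ⟨fun ⟨g, hg, he⟩ => he ▸ hg, fun h => ⟨m, h, rfl⟩⟩ ⟨?_, fun h => ⟨m - b, h.2, by omega⟩⟩
  rintro ⟨g, hg, rfl⟩
  exact ⟨by omega, by simpa using hg⟩

theorem shift_mem {T : Set ℕ} {c x : ℕ} : x ∈ (c + ·) '' T ↔ c ≤ x ∧ x - c ∈ T := by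
  constructor
  · rintro ⟨t, ht, rfl⟩
    exact ⟨by simp, by simpa using ht⟩
  · rintro ⟨h, h'⟩
    exact ⟨x - c, h', by simp only; omega⟩

/-- The lengths for the singularity of type `A` of even index. -/
theorem ext_A_even (δ : ℕ) (hmono : ∀ f : PowerSeries k, f ∈ A ↔ ∀ n : ℕ, coeff n f ≠ 0 →
      n ∈ AddSubmonoid.closure ({2, 2 * δ + 1} : Set ℕ)) (i j : ℕ) (hi : i ≤ δ) (hj : j ≤ δ) :
    Module.length ↥A (Abelian.Ext
      (ModuleCat.of ↥A ↥(Submodule.span ↥A ({1, X ^ (2 * δ + 1 - 2 * i)} : Set (PowerSeries k))))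
      (ModuleCat.of ↥A ↥(Submodule.span ↥A ({1, X ^ (2 * δ + 1 - 2 * j)} : Set (PowerSeries k)))) 1) =
      ((2 * min i j : ℕ) : ℕ∞) := by
  classical
  let Γ : Set ℕ := {m | m % 2 = 0 ∨ 2 * δ + 1 ≤ m}
  have hA : ∀ f : PowerSeries k, f ∈ A ↔ Supp Γ f := fun f => by
    rw [hmono]
    exact forall_congr' fun m => imp_congr_right fun _ => mem_closure_even
  let T : Set ℕ := {m | m % 2 = 0 ∨ 2 * δ + 1 - 2 * j ≤ m}
  let f₀ : ℕ → ℕ := fun m => 2 * δ - 2 - 2 * m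
  let f₁ : ℕ → ℕ := fun m => 2 * δ + min (2 * δ + 1 - 2 * i) (2 * δ + 1 - 2 * j) - 2 - 2 * m
  have h₀ : Set.InjOn f₀ ↑(Finset.range (min i j)) := fun x hx y hy h => by
    simp only [f₀, Finset.coe_range, Set.mem_Iio] at *; omega
  have h₁ : Set.InjOn f₁ ↑(Finset.range (min i j)) := fun x hx y hy h => by
    simp only [f₁, Finset.coe_range, Set.mem_Iio] at *; omega
  rw [ext_two (D := (Finset.range (min i j)).image f₀ ∪ (Finset.range (min i j)).image f₁) hA (2 * δ)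
    (fun m hm => show m % 2 = 0 ∨ _ by omega) _ T _
    (mem_span_pair hA _ fun m => show (m % 2 = 0 ∨ _) ↔ (m % 2 = 0 ∨ _) ∨ (_ ∧ ((m - _) % 2 = 0 ∨ _)) by omega)]
  · rw [Finset.card_union_of_disjoint, Finset.card_image_of_injOn h₀, Finset.card_image_of_injOn h₁, Finset.card_range,
      two_mul]
    rw [Finset.disjoint_left]
    intro x hx hy
    simp only [Finset.mem_image, Finset.mem_range] at hx hy
    obtain ⟨p, hp, rfl⟩ := hx
    obtain ⟨q, hq, he⟩ := hy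
    simp only [f₀, f₁] at he
    omega
  · intro e
    simp only [Finset.mem_union, Finset.mem_image, Finset.mem_range, shift_mem]
    simp only [T, Γ, Set.mem_setOf_eq, f₀, f₁]
    constructor
    · intro h
      refine ⟨fun l hl hla => ?_, ?_, ?_⟩
      · rcases h with ⟨p, hp, rfl⟩ | ⟨p, hp, rfl⟩ <;> omega
      · rcases h with ⟨p, hp, rfl⟩ | ⟨p, hp, rfl⟩ <;> omega
      · rcases h with ⟨p, hp, rfl⟩ | ⟨p, hp, rfl⟩ <;> omega
    · rintro ⟨hJ, hT, hT'⟩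
      have e1 := hJ (2 * i) (Or.inl (by omega)) (Or.inr (by omega))
      have e2 := hJ (2 * δ + 1) (Or.inr (by omega)) (Or.inr (by omega))
      by_cases he : e % 2 = 0
      · exact Or.inl ⟨(2 * δ - 2 - e) / 2, by omega, by omega⟩
      · exact Or.inr ⟨(2 * δ + min (2 * δ + 1 - 2 * i) (2 * δ + 1 - 2 * j) - 2 - e) / 2, by omega, by omega⟩

theorem ext_E6_two (hA : ∀ f : PowerSeries k, f ∈ A ↔ Supp {m | m = 0 ∨ m = 3 ∨ m = 4 ∨ 6 ≤ m} f) (b : ℕ)
    (D : Finset ℕ)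
    (hD : ∀ e, e ∈ D ↔ (∀ l, (l = 0 ∨ l = 3 ∨ l = 4 ∨ 6 ≤ l) → (l + b = 0 ∨ l + b = 3 ∨ l + b = 4 ∨ 6 ≤ l + b) →
      6 ≤ e + l ∧ ((e + l - 6 = 0 ∨ e + l - 6 = 3 ∨ e + l - 6 = 4 ∨ 6 ≤ e + l - 6) ∨
        (b ≤ e + l - 6 ∧ (e + l - 6 - b = 0 ∨ e + l - 6 - b = 3 ∨ e + l - 6 - b = 4 ∨ 6 ≤ e + l - 6 - b)))) ∧
      ¬ (6 ≤ e ∧ ((e - 6 = 0 ∨ e - 6 = 3 ∨ e - 6 = 4 ∨ 6 ≤ e - 6) ∨
        (b ≤ e - 6 ∧ (e - 6 - b = 0 ∨ e - 6 - b = 3 ∨ e - 6 - b = 4 ∨ 6 ≤ e - 6 - b)))) ∧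
      ¬ (6 + b ≤ e ∧ ((e - (6 + b) = 0 ∨ e - (6 + b) = 3 ∨ e - (6 + b) = 4 ∨ 6 ≤ e - (6 + b)) ∨
        (b ≤ e - (6 + b) ∧ (e - (6 + b) - b = 0 ∨ e - (6 + b) - b = 3 ∨ e - (6 + b) - b = 4 ∨ 6 ≤ e - (6 + b) - b))))) :
    Module.length ↥A (Abelian.Ext
      (ModuleCat.of ↥A ↥(Submodule.span ↥A ({1, X ^ b} : Set (PowerSeries k))))
      (ModuleCat.of ↥A ↥(Submodule.span ↥A ({1, X ^ b} : Set (PowerSeries k)))) 1) = (D.card : ℕ∞) := by
  refine ext_two hA 6 (fun m hm => show m = 0 ∨ _ by omega) b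
    {m | (m = 0 ∨ m = 3 ∨ m = 4 ∨ 6 ≤ m) ∨ (b ≤ m ∧ (m - b = 0 ∨ m - b = 3 ∨ m - b = 4 ∨ 6 ≤ m - b))} _
    (mem_span_pair hA b fun m => Iff.rfl) D fun e => ?_
  rw [hD]
  simp only [shift_mem, Set.mem_setOf_eq]

end Groth.Agent.TFExt
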